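import Cfsg.Agent.Lib.L4C.Syl

/-! Groups with an involution centralizer of type `L₄(q)`: the model (helper16). -/

set_option autoImplicit false

namespace Cfsg.Lib.L4C

open Matrix Subgroup Cfsg.Lib.PSL2 Cfsg.Lib.GLTwo Cfsg.Lib.L3C Cfsg.Lib.BG Cfsg.Lib.Small Cfsg.Lib.GW
open Cfsg.Lib.Inv hiding conj_mem_of_mem_normalizer
open scoped Cfsg.Lib.Transfer MatrixGroups

variable {F : Type*} [Field F] {G G' : Type*} [Group G] [Group G']

/-- block matrices -/
def bl (A B C E : Matrix (Fin 2) (Fin 2) F) : Matrix (Fin 4) (Fin 4) F :=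
  reindexAlgEquiv F F finSumFinEquiv (fromBlocks A B C E)

theorem bl_mul (A B C E A' B' C' E' : Matrix (Fin 2) (Fin 2) F) : bl A B C E * bl A' B' C' E' =
    bl (A * A' + B * C') (A * B' + B * E') (C * A' + E * C') (C * B' + E * E') := by
  rw [bl, bl, ← map_mul, fromBlocks_multiply, bl]
theorem bl_inj {A B C E A' B' C' E' : Matrix (Fin 2) (Fin 2) F} :
    bl A B C E = bl A' B' C' E' ↔ A = A' ∧ B = B' ∧ C = C' ∧ E = E' := by
  rw [bl, bl, EmbeddingLike.apply_eq_iff_eq, fromBlocks_inj]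
theorem exists_bl (X : Matrix (Fin 4) (Fin 4) F) : ∃ A B C E, X = bl A B C E :=
  ⟨_, _, _, _, by rw [bl, fromBlocks_toBlocks ((reindexAlgEquiv F F finSumFinEquiv).symm X), AlgEquiv.apply_symm_apply]⟩
theorem bl_det (A B C E : Matrix (Fin 2) (Fin 2) F) : (bl A B C E).det = (fromBlocks A B C E).det := det_reindexAlgEquiv ..
theorem bl_smul (r : F) (A B C E : Matrix (Fin 2) (Fin 2) F) : r • bl A B C E = bl (r • A) (r • B) (r • C) (r • E) := by
  rw [bl, ← map_smul, fromBlocks_smul, bl]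
theorem bl_one : bl 1 0 0 1 = (1 : Matrix (Fin 4) (Fin 4) F) := by rw [bl, fromBlocks_one, map_one]
theorem dg_smul (z : Fˣ) : ((dg z z : GL (Fin 2) F) : Matrix (Fin 2) (Fin 2) F) = (z : F) • 1 := by
  ext i j; fin_cases i <;> fin_cases j <;> simp

open Classical in
/-- block diagonal elements of `SL₄` -/
noncomputable def bd (A B : GL (Fin 2) F) : SL(4, F) :=
  if h : Pr A B then ⟨bl A 0 0 B, by rw [bl_det, det_fromBlocks_zero₂₁]; exact congrArg Units.val h⟩ else 1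
theorem bd_coe {A B : GL (Fin 2) F} (h : Pr A B) : (bd A B : Matrix (Fin 4) (Fin 4) F) = bl A 0 0 B := congrArg Subtype.val (dif_pos h)
/-- the swap -/
def sw4 : SL(4, F) := ⟨bl 0 1 1 0, by
  rw [show bl 0 1 1 0 = bl 1 1 0 1 * bl 1 0 (-1) 1 * bl 1 1 0 1 * bl (-1 : Matrix (Fin 2) (Fin 2) F) 0 0 1 by simp [bl_mul]]
  simp [bl_det, det_fromBlocks_zero₂₁, det_neg]⟩

theorem sw4_coe : ((sw4 : SL(4, F)) : Matrix (Fin 4) (Fin 4) F) = bl 0 1 1 0 := rfl

theorem psl_eq {X Y : SL(4, F)} : (X : PSL(4, F)) = Y ↔ ∃ r : Fˣ, (X : Matrix (Fin 4) (Fin 4) F) = (r : F) • Y := by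
  rw [eq_comm, QuotientGroup.eq, Matrix.SpecialLinearGroup.mem_center_iff]
  refine ⟨fun ⟨r, h, e⟩ => ⟨.mk0 r (by rintro rfl; simp at h), ?_⟩, fun ⟨r, e⟩ => ⟨r, ?_, ?_⟩⟩
  · rw [Units.val_mk0, ← mul_inv_cancel_left Y X, Matrix.SpecialLinearGroup.coe_mul, ← e]; simp [scalar_apply, ← smul_one_eq_diagonal]
  · simpa using (congrArg det e).symm
  · rw [Matrix.SpecialLinearGroup.coe_mul, e, mul_smul_comm, ← Matrix.SpecialLinearGroup.coe_mul]; simp [scalar_apply, ← smul_one_eq_diagonal]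

/-- the parametrization in `L₄(q)` -/
noncomputable def dat0 (h2 : (2 : F) ≠ 0) : Dat F PSL(4, F) where
  m A B := (bd A B : SL(4, F))
  ν := (sw4 : SL(4, F))
  two := h2
  mul h k := congrArg _ (Subtype.ext (by simp [bd_coe, h, k, h.mul k, bl_mul]))
  ker h := by
    rw [← QuotientGroup.mk_one, psl_eq]
    simp [bd_coe h, ← bl_one, bl_smul, bl_inj, Units.ext_iff, dg_smul, -dg_coe]
  νν := congrArg _ (Subtype.ext (by simp [sw4_coe, bl_mul, bl_one]))
  swap h := congrArg _ (Subtype.ext (by simp [bd_coe, h, h.symm, sw4_coe, bl_mul]))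
  cent := by
    intro x
    have p : Pr (ng : GL (Fin 2) F) 1 := by prt
    have n : ((ng : GL (Fin 2) F) : Matrix (Fin 2) (Fin 2) F) = -1 := by simp [dg_smul, -dg_coe]
    induction x using QuotientGroup.induction_on with | H X => ?_
    refine ⟨fun h => ?_, ?_⟩
    · obtain ⟨A, B, C, E, e⟩ := exists_bl (X : Matrix (Fin 4) (Fin 4) F)
      obtain ⟨r, h⟩ := psl_eq.1 (show ((X * bd ng 1 : SL(4, F)) : PSL(4, F)) = (bd ng 1 * X : SL(4, F)) from mem_cent1.1 h)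
      simp only [Matrix.SpecialLinearGroup.coe_mul, e, bd_coe p, n, bl_mul, bl_smul, bl_inj, Units.val_one] at h
      simp only [mul_neg, neg_mul, mul_one, one_mul, mul_zero, zero_mul, add_zero, zero_add, smul_neg] at h
      have z : ∀ {c : F} {A : Matrix (Fin 2) (Fin 2) F}, c ≠ 0 → c • A = 0 → A = 0 := fun a b => (smul_eq_zero.1 b).resolve_left a
      have u : ∀ {Y : SL(4, F)} {A E}, (Y : Matrix (Fin 4) (Fin 4) F) = bl A 0 0 E → ∃ A B, Pr A B ∧ Y = bd A B := fun {Y A E} e => by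
        have d : A.det * E.det = 1 := by rw [← det_fromBlocks_zero₂₁ A 0, ← bl_det, ← e, Y.2]
        have p : Pr (.mkOfDetNeZero A (left_ne_zero_of_mul_eq_one d)) (.mkOfDetNeZero E (right_ne_zero_of_mul_eq_one d)) :=
          Units.ext d
        exact ⟨_, _, p, Subtype.ext (e.trans (bd_coe p).symm)⟩
      by_cases k : (r : F) = 1
      · rw [k, one_smul, one_smul, one_smul] at h
        obtain ⟨A, B, a, b⟩ := u (e.trans (by
          rw [z h2 (show (2 : F) • B = 0 by rw [two_smul]; nth_rw 1 [h.2.1]; simp),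
            z h2 (show (2 : F) • C = 0 by rw [two_smul]; nth_rw 1 [← h.2.2.1]; simp)]))
        exact ⟨A, B, a, .inl (by rw [b])⟩
      · obtain ⟨A, B, a, b⟩ := u (Y := X * sw4) (by
          rw [Matrix.SpecialLinearGroup.coe_mul, e, z (sub_ne_zero.2 k) (show ((r : F) - 1) • A = 0 by rw [sub_smul, ← neg_inj.1 h.1]; simp),
            z (sub_ne_zero.2 k) (show ((r : F) - 1) • E = 0 by rw [sub_smul, ← h.2.2.2]; simp)]
          simp only [sw4_coe, bl_mul, mul_one, mul_zero, add_zero, zero_add]; rfl)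
        exact ⟨A, B, a, .inr (congrArg _ (show X = _ * sw4 by rw [← b, mul_assoc]; exact left_eq_mul.2 (Subtype.ext (by
          simp [sw4_coe, bl_mul, bl_one]))))⟩
    · have k : ∀ {A B : GL (Fin 2) F}, Pr A B → ((bd A B : SL(4, F)) : PSL(4, F)) ∈ 𝐂[((bd ng 1 : SL(4, F)) : PSL(4, F))] :=
        fun h => mem_cent1.2 (congrArg _ (Subtype.ext (by simp [bd_coe, h, p, n, bl_mul, -dg_coe])))
      rintro ⟨A, B, h, e | e⟩ <;> rw [e]
      exacts [k h, mul_mem (k h) (mem_cent1.2 (psl_eq.2 ⟨-1, by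
        simp [bd_coe, p, n, bl_mul, sw4_coe, bl_smul, -dg_coe, -neg_smul, bl_inj]; simp⟩))]

theorem dat0_t (h2 : (2 : F) ≠ 0) {d : SL(4, F)} (hd : (d : Matrix (Fin 4) (Fin 4) F) = diagonal ![-1, -1, 1, 1]) :
    (dat0 h2).t = d := congrArg _ (Subtype.ext (by
  rw [hd, bd_coe (by prt)]
  ext i j
  fin_cases i <;> fin_cases j <;> simp [bl] <;> rfl))

open Classical in
theorem Dat.exists_tr [Finite F] [Finite G'] (D : Dat F G') {t : G} (ht : orderOf t = 2) (e : 𝐂[t] ≃* 𝐂[D.t]) :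
    ∃ E : Dat F G, E.t = t := by
  let f : G' → G := fun x => if h : x ∈ 𝐂[D.t] then e.symm ⟨x, h⟩ else 1
  have f0 : ∀ x : 𝐂[t], f (e x) = x := fun x => by simp [f]
  have f1 : ∀ {x y}, x ∈ 𝐂[D.t] → y ∈ 𝐂[D.t] → f x * f y = f (x * y) := fun {x y} a b => by
    simp only [f, dif_pos a, dif_pos b, dif_pos (mul_mem a b), ← coe_mul, ← map_mul]; rfl
  have f2 : ∀ {x}, x ∈ 𝐂[D.t] → (f x = 1 ↔ x = 1) := fun a => by simp [f, a, Subtype.ext_iff]
  have f3 : f D.t = t := by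
    obtain ⟨Q, q1, -, -, q⟩ := D.exists_Q
    rw [← (q 1 (one_mem _) _ (e ⟨t, self_mem_cent1 t⟩).2 (by
      rw [← coe_mul, ← map_mul, show (⟨t, _⟩ * ⟨t, _⟩ : 𝐂[t]) = 1 from Subtype.ext (by
        rw [coe_mul, ← sq, ← ht, pow_orderOf_eq_one]; rfl), map_one]; rfl) (mem_cent.2 fun x hx => by
      obtain ⟨y, k⟩ := e.surjective ⟨x, D.H_le (D.YY_le (q1 (Transfer.conj_one Q ▸ hx)))⟩
      rw [show x = e y from congrArg Subtype.val k.symm, ← coe_mul, ← coe_mul, ← map_mul, ← map_mul]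
      exact congrArg _ (congrArg _ (Subtype.ext (mem_cent1.1 y.2))))).resolve_left fun k => by
        simp [show t = 1 by simpa [Subtype.ext_iff] using k] at ht, f0]
  refine ⟨⟨fun A B => f (D.m A B), f D.ν, D.two, fun h k => by rw [f1 D.m_mem D.m_mem, D.mul h k], fun h => by
    rw [f2 D.m_mem, D.ker h], by rw [f1 D.ν_mem D.ν_mem, D.νν, f2 (one_mem _)],
    fun h => by rw [f1 D.ν_mem D.m_mem, f1 D.m_mem D.ν_mem, D.swap h], fun {x} => ?_⟩, f3⟩
  rw [show f (D.m ng 1) = t from f3]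
  have f4 : ∀ x, f x ∈ 𝐂[t] := fun x => by
    simp only [f]; split_ifs
    exacts [SetLike.coe_mem _, one_mem _]
  refine ⟨fun hx => ?_, fun ⟨A, B, h, k⟩ => k.elim (· ▸ f4 _) (· ▸ mul_mem (f4 _) (f4 _))⟩
  obtain ⟨A, B, h, k⟩ := D.cases (e ⟨x, hx⟩).2
  exact ⟨A, B, h, k.imp (fun k => by rw [← k, f0]) fun k => by rw [f1 D.m_mem D.ν_mem, ← k, f0]⟩

end Cfsg.Lib.L4C
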