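import Cfsg.Agent.Lib.L4C.Root
import Cfsg.Agent.Lib.Pres.Sp

/-! Groups with an involution centralizer of type `L₄(q)`: the Steinberg relations (helper16). -/

set_option autoImplicit false

namespace Cfsg.Lib.L4C

open Matrix Subgroup Cfsg.Lib.PSL2 Cfsg.Lib.GLTwo Cfsg.Lib.L3C Cfsg.Lib.BG Cfsg.Lib.Small Cfsg.Lib.GW
open Cfsg.Lib.Chev (A2Pair CTRels rootA A_A)
open Cfsg.Lib.Inv hiding conj_mem_of_mem_normalizer
open scoped Cfsg.Lib.Transfer MatrixGroups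

variable {F : Type*} [Field F] {G : Type*} [Group G]

theorem ulu (s : Fˣ) : up (s : F) * lo (-(s : F)⁻¹) * up (s : F) = jj * dg s⁻¹ s ∧
    up (s : F) * lo (-(s : F)⁻¹) * up (s : F) = (dg s⁻¹ s)⁻¹ * jj := by
  rw [up_lo_up, dg_inv]
  constructor <;> apply gl_ext <;> simp

theorem a2_of [Finite F] {Y : Fin 3 → Fin 3 → F → G} (add : ∀ i j, i ≠ j → ∀ a b, Y i j (a + b) = Y i j a * Y i j b)
    (cm : ∀ i j k, i ≠ j → j ≠ k → i ≠ k → ∀ a b, Y i j a * Y j k b = Y i k (a * b) * (Y j k b * Y i j a))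
    (π : Fin 3 → Fin 3) (hπ : π.Injective) : A2Pair (Y (π 0) (π 1)) (Y (π 1) (π 0)) (Y (π 1) (π 2)) (Y (π 2) (π 1)) :=
  let ⟨ψ, h⟩ := exists_SL3 (Y := fun i j => Y (π i) (π j)) (fun _ _ e => add _ _ (hπ.ne e))
    fun _ _ _ a b c => cm _ _ _ (hπ.ne a) (hπ.ne b) (hπ.ne c)
  ⟨ψ, h _ _ _, h _ _ _, h _ _ _, h _ _ _⟩

/-- A hexagon of root groups. -/
structure Hx (φ ψ : GL (Fin 2) F →* G) (U12 U21 U13 U31 U23 U32 : Subgroup G) : Prop where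
  inj : ∀ x y, φ (up x) = φ (up y) → x = y
  tor : ∀ s : Fˣ, ∃ l : Fˣ, ∀ x, ψ (dg s⁻¹ s) * φ (up x) * (ψ (dg s⁻¹ s))⁻¹ = φ (up (l * x)) ∧
    (ψ (dg s⁻¹ s))⁻¹ * φ (lo x) * ψ (dg s⁻¹ s) = φ (lo (l * x))
  m12 : ∀ s, ψ (up s) ∈ U12
  m21 : ∀ s, ψ (lo s) ∈ U21
  m13 : ∀ s, φ (up s) ∈ U13
  m31 : ∀ s, φ (lo s) ∈ U31
  m23 : ∀ s, ψ jj * φ (up s) * (ψ jj)⁻¹ ∈ U23
  m32 : ∀ s, (ψ jj)⁻¹ * φ (lo s) * ψ jj ∈ U32
  m32' : ∀ s : Fˣ, ∀ a ∈ U12, φ (up s) * φ (lo (-(s : F)⁻¹)) * φ (up s) * a * (φ (up s) * φ (lo (-(s : F)⁻¹)) * φ (up s))⁻¹ ∈ U32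
  i1 : U13 ⊓ U23 = ⊥
  i2 : U32 ⊓ U31 = ⊥
  i3 : U12 ⊓ U32 = ⊥
  c1 : U12 ≤ 𝐂(U13)
  c2 : U13 ≤ 𝐂(U23)
  c3 : U32 ≤ 𝐂(U31)
  c4 : U12 ≤ 𝐂(U32)
  k13 : ∀ x ∈ U12, ∀ y ∈ U23, x * y * x⁻¹ * y⁻¹ ∈ U13
  k23 : ∀ x ∈ U21, ∀ y ∈ U13, x * y * x⁻¹ * y⁻¹ ∈ U23
  k32 : ∀ x ∈ U12, ∀ y ∈ U31, x * y * x⁻¹ * y⁻¹ ∈ U32
  k31 : ∀ x ∈ U21, ∀ y ∈ U32, x * y * x⁻¹ * y⁻¹ ∈ U31
  k12 : ∀ x ∈ U13, ∀ y ∈ U32, x * y * x⁻¹ * y⁻¹ ∈ U12

namespace Hx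
variable {φ ψ : GL (Fin 2) F →* G} {U12 U21 U13 U31 U23 U32 : Subgroup G} (h : Hx φ ψ U12 U21 U13 U31 U23 U32)
include h

theorem exists_lam : ∃ l : Fˣ →* Fˣ, ∀ s x, ψ (dg s⁻¹ s) * φ (up x) * (ψ (dg s⁻¹ s))⁻¹ = φ (up (l s * x)) ∧
    (ψ (dg s⁻¹ s))⁻¹ * φ (lo x) * ψ (dg s⁻¹ s) = φ (lo (l s * x)) := by
  choose l hl using h.tor
  refine ⟨.mk' l fun s r => Units.ext ?_, hl⟩
  have := (hl (s * r) 1).1
  rw [mul_inv, ← dg_mul, map_mul, cjc, (hl r 1).1, (hl s _).1] at this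
  simpa using (h.inj _ _ this).symm

variable [Finite F]

theorem exists_sigma : ∃ σ : F ≃+* F, ∀ s x,
    (ψ (up s) * (ψ jj * φ (up x) * (ψ jj)⁻¹) * (ψ (up s))⁻¹ = φ (up (-(σ s * x))) * (ψ jj * φ (up x) * (ψ jj)⁻¹) ∧
    ψ (up s) * φ (lo x) * (ψ (up s))⁻¹ = ((ψ jj)⁻¹ * φ (lo (-(σ s * x))) * ψ jj) * φ (lo x)) ∧
    ψ (lo s) * φ (up x) * (ψ (lo s))⁻¹ = (ψ jj * φ (up (-(σ s * x))) * (ψ jj)⁻¹) * φ (up x) ∧
    ψ (lo s) * ((ψ jj)⁻¹ * φ (lo x) * ψ jj) * (ψ (lo s))⁻¹ = φ (lo (-(σ s * x))) * ((ψ jj)⁻¹ * φ (lo x) * ψ jj) := by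
  classical
  obtain ⟨l, hl⟩ := h.exists_lam
  have n1 := fun (s : Fˣ) x => nm h.i1 (h.c1 (h.m12 s)) (h.k13 _ (h.m12 s)) (h.k23 _ (h.m21 (-(s : F)⁻¹)) _ (h.m13 x)) h.c2
    (h.m13 x) (θ := ψ jj * φ (up (l s * x)) * (ψ jj)⁻¹) (by
      rw [← map_mul, ← map_mul, (ulu s).1, map_mul, cjc, (hl s x).1]) (h.m23 _)
  have n2 := fun (s : Fˣ) x => nm h.i2 (h.c4 (h.m12 s)) (h.k32 _ (h.m12 s)) (h.k31 _ (h.m21 (-(s : F)⁻¹)) _ (h.m32 x)) h.c3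
    (h.m32 x) (θ := φ (lo (l s * x))) (by
      rw [← map_mul, ← map_mul, (ulu s).2, map_mul, map_inv, cjc, ← (hl s x).2]; group) (h.m31 _)
  let f : F → F := fun s => if e : s = 0 then 0 else ((l (.mk0 s e))⁻¹ : Fˣ)
  have fu : ∀ s : Fˣ, f s = ((l s)⁻¹ : Fˣ) := fun s => by simp [f]
  have f0 : f 0 = 0 := by simp [f]
  have r1 : ∀ s x, ψ (up s) * (ψ jj * φ (up x) * (ψ jj)⁻¹) * (ψ (up s))⁻¹ =
      φ (up (-(f s * x))) * (ψ jj * φ (up x) * (ψ jj)⁻¹) ∧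
      ψ (up s) * φ (lo x) * (ψ (up s))⁻¹ = ((ψ jj)⁻¹ * φ (lo (-(f s * x))) * ψ jj) * φ (lo x) := fun s x => by
    rcases eq_zero_or_unit s with rfl | ⟨s, rfl⟩
    · simp [f0]
    have e1 := (n1 s (f s * x)).2
    have e2 := (n2 s (f s * x)).2
    rw [fu, Units.mul_inv_cancel_left, ← fu] at e1 e2
    exact ⟨by rw [e1, up_neg, map_inv], by rw [e2, lo_neg, map_inv]; group⟩
  let σ : F →+* F :=
    { toFun := f
      map_one' := by simpa using fu 1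
      map_mul' := fun s r => by
        rcases eq_zero_or_unit s with rfl | ⟨s, rfl⟩
        · simp [f0]
        rcases eq_zero_or_unit r with rfl | ⟨r, rfl⟩
        · simp [f0]
        rw [← Units.val_mul, fu, fu, fu, map_mul, mul_inv, Units.val_mul]
      map_zero' := f0
      map_add' := fun s r => by
        have := (r1 (s + r) 1).1
        rw [up_add, map_mul, cjc, (r1 r 1).1, cj_mul, (r1 s 1).1, ← mul_assoc, mul_left_inj,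
          ← mem_cent.1 (h.c1 (h.m12 s)) _ (h.m13 _), mul_inv_cancel_right, ← map_mul, ← up_add] at this
        linear_combination h.inj _ _ this }
  refine ⟨.ofBijective σ (Finite.injective_iff_bijective.1 σ.injective), fun s x => ⟨r1 s x, ?_⟩⟩
  rcases eq_zero_or_unit s with rfl | ⟨s, rfl⟩
  · simp
  have e1 := (n1 (-s⁻¹) x).1
  have e2 := (n2 (-s⁻¹) x).1
  have e3 : (l (-s⁻¹) : F) * x = -(σ s * x) := by
    have : σ (-s⁻¹ : Fˣ) = ((l (-s⁻¹))⁻¹ : Fˣ) := fu _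
    rw [Units.val_neg, map_neg, Units.val_inv_eq_inv_val, map_inv₀, Units.val_inv_eq_inv_val,
      neg_inv, _root_.inv_inj] at this
    rw [← this, neg_mul]
  rw [e3] at e1 e2
  simpa using And.intro e1 e2

theorem pairs : ∃ σ : F ≃+* F,
    A2Pair (fun s => ψ (lo (σ s))) (fun s => ψ (up (σ s))) (fun s => φ (up s)) (fun s => φ (lo s)) ∧
    A2Pair (fun s => φ (lo s)) (fun s => φ (up s)) (fun s => ψ (up (σ s))) fun s => ψ (lo (σ s)) := by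
  obtain ⟨σ, hσ⟩ := h.exists_sigma
  have r : ∀ {x y z : G}, x * y * x⁻¹ = z * y → x * y = z * (y * x) := fun e => by
    rw [← mul_assoc, ← e, inv_mul_cancel_right]
  have r' : ∀ {x y z : G}, x * y * x⁻¹ = z⁻¹ * y → y * x = z * (x * y) := fun e => by
    rw [r e, mul_inv_cancel_left]
  have n3 : ∀ s x, φ (up s) * ((ψ jj)⁻¹ * φ (lo x) * ψ jj) = ψ (up (σ.symm (s * x))) *
      ((ψ jj)⁻¹ * φ (lo x) * ψ jj * φ (up s)) := fun s x => by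
    rcases eq_zero_or_unit s with rfl | ⟨s, rfl⟩
    · simp
    obtain ⟨e2, e3⟩ := nm h.i3 (cent_symm h.c1 (h.m13 (s : F))) (h.k12 _ (h.m13 (s : F)))
      (cm_symm h.k32 _ (h.m31 (-(s : F)⁻¹ : F)) _ (h.m12 (σ.symm (-(s * x))))) h.c4 (h.m12 _) rfl (h.m32' s _ (h.m12 _))
    have e4 := (hσ (σ.symm (-(s * x))) (-(s : F)⁻¹)).1.2
    generalize φ (up s) * φ (lo (-(s : F)⁻¹)) * φ (up s) * ψ (up (σ.symm (-(s * x)))) * _ = θ at e2 e3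
    obtain rfl : θ = (ψ jj)⁻¹ * φ (lo x) * ψ jj := by
      rw [σ.apply_symm_apply, neg_mul_neg, show (s : F) * x * (s : F)⁻¹ = x by field_simp, lo_neg x,
        map_inv] at e4
      rw [eq_mul_inv_of_mul_eq e2.symm, r' (x := ψ _) (z := (ψ jj)⁻¹ * φ (lo x) * ψ jj) (by rw [e4]; group)]
      group
    exact r (by rw [e3, map_neg, up_neg, map_inv, inv_inv])
  have := a2_of (F := F) (Y := ![![1, fun s => ψ (up (σ.symm s)), fun s => φ (up s)],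
    ![fun s => ψ (lo (σ.symm s)), 1, fun s => ψ jj * φ (up (-s)) * (ψ jj)⁻¹],
    ![fun s => φ (lo s), fun s => (ψ jj)⁻¹ * φ (lo s) * ψ jj, 1]]) (fun i j e x y => by
      fin_cases i <;> fin_cases j <;> simp [up_add, lo_add, mul_assoc, add_comm (-y)]) fun i j k e1 e2 e3 x y => by
    fin_cases i <;> fin_cases j <;> fin_cases k <;> (try exact absurd rfl e1) <;>
      (try exact absurd rfl e2) <;> (try exact absurd rfl e3)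
    · simpa using r (hσ (σ.symm x) (-y)).1.1
    · exact n3 x y
    · simpa using r (hσ (σ.symm x) y).2.1
    · have := congrArg (fun z => ψ jj * z * (ψ jj)⁻¹) (n3 (-x) y)
      have e : ψ jj * ψ (up (σ.symm (-x * y))) * (ψ jj)⁻¹ = ψ (lo (σ.symm (x * y))) := by
        rw [map_cj, jj_up]; simp
      simp only [cj_mul, e] at this
      simpa [mul_assoc] using this
    · refine r' ((hσ (σ.symm y) x).1.2.trans ?_)
      simp [lo_neg, mul_comm x, mul_assoc]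
    · refine r' ((hσ (σ.symm y) x).2.2.trans ?_)
      simp [lo_neg, mul_comm x]
  exact ⟨σ.symm, this ![1, 0, 2] (by decide), this ![2, 0, 1] (by decide)⟩

end Hx

namespace Dat
variable (D : Dat F G) {E : Dat F G} {X : GL (Fin 2) F} {a : Fˣ}

/-- the first block -/
def φ : GL (Fin 2) F →* G := .mk' (fun X => D.m X (dg (𝐝 X)⁻¹ 1)) fun X Y => by
  rw [D.mul (by prt) (by prt), dg_mul, map_mul, mul_inv, mul_one]
theorem φ_eq (h : 𝐝 X = 1) : D.φ X = D.m X 1 := by simp [φ, h]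
theorem φ_up (s : F) : D.φ (up s) = D.m (up s) 1 := D.φ_eq (dt_up s)
theorem φ_lo (s : F) : D.φ (lo s) = D.m (lo s) 1 := D.φ_eq (dt_lo s)
theorem φ_jj : D.φ jj = D.n := D.φ_eq dt_jj
theorem φ_T (s : Fˣ) : D.φ (dg s⁻¹ s) ∈ D.T := D.T_mem

namespace Two
variable {D} (h : Two D E) (p : ℕ) [hp : Fact p.Prime] [CharP F p] [Finite G] (hq : a * a ≠ 1)
include h hp hq

theorem hx : Hx E.φ D.φ D.R (D.w ⋆ D.R) E.R (D.w ⋆ (D.ν ⋆ E.R)) (D.n ⋆ E.R) (D.n ⋆ (D.w ⋆ (D.ν ⋆ E.R))) := by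
  obtain ⟨n1, n2, n3⟩ := h.ne
  have m31 : ∀ s, E.φ (lo s) ∈ D.w ⋆ (D.ν ⋆ E.R) := fun s => E.φ_lo s ▸ h.Ew h.rA ▸ E.lo_mem s
  have k32 := h.r42.comm p D.rt_R h.r41 n2.symm n3.symm (cent_symm h.c12_42) (cent_symm (h.c41_42 p hq))
  have k12 := D.rt_R.comm p h.rA h.r42 n1 n2 h.c12_14 h.c12_42
  refine ⟨fun x y e => up_inj.1 (E.inj1 (E.φ_up x ▸ E.φ_up y ▸ e)), fun s => ?_, fun s => D.φ_up s ▸ D.R_mem s,
    fun s => D.φ_lo s ▸ D.lo_mem s, fun s => E.φ_up s ▸ E.R_mem s, m31,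
    fun s => D.φ_jj ▸ E.φ_up s ▸ Transfer.conj_mem_conj.2 (E.R_mem s), fun s => by rw [φ_jj]; exact Transfer.mem_conj.1 (h.r41.nn.ge (m31 s)),
    fun s a ha => nm' (D.rt_R.inf p h.r42 n2.symm) h.r42.le (E.φ_up s ▸ h.c12_14 (E.R_mem s)) (k12 _ (E.φ_up s ▸ E.R_mem s))
      (cm_symm k32 _ (m31 _) _ ha) (cent_symm h.c12_42) ha ?_,
    eq_bot_mono (h.rA.inf p h.r24 n3.symm) (inf_le_inf_left _ h.r24.le),
    eq_bot_mono (h.r42.inf p h.r41 n3) (inf_le_inf_left _ h.r41.le),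
    eq_bot_mono (D.rt_R.inf p h.r42 n2.symm) (inf_le_inf_left _ h.r42.le),
    cent_symm h.c12_14, cent_symm (h.c14_24 p hq), h.c41_42 p hq, cent_symm h.c12_42,
    h.rA.comm p D.rt_R h.r24 n1.symm n3 (cent_symm h.c12_14) (h.c14_24 p hq),
    h.r24.comm p r21 h.rA n2.symm n3.symm (cent_symm h.c21_24) (cent_symm (h.c14_24 p hq)), k32,
    h.r41.comm p r21 h.r42 n1.symm n3 (cent_symm h.c21_41) (h.c41_42 p hq), k12⟩
  · obtain ⟨a, b, c, d, k, e⟩ := h.T.ge (D.φ_T s)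
    refine ⟨a / b, fun x => ?_⟩
    rw [e, φ_up, φ_up, φ_lo, φ_lo, E.T_up1 k, ← inv_inv (E.m (dg a b) _), E.inv k, dg_inv, dg_inv, inv_inv,
      E.T_lo1 (by simpa only [dg_inv] using k.inv)]
    simp [div_eq_mul_inv, mul_comm]
  · rw [← map_mul, ← map_mul, (ulu s).1, map_mul, cjc, φ_jj, ← mem_cent1.1 (h.pv.symm.T_ct E.t_mem), ← h.pv.symm.n]
    exact cj_cent (D.rt_R.le (conj_mem_of_norm (D.T_norm (h.T.le (E.φ_T s))) ha)) _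

theorem exists_hom [Finite F] : ∃ ψ : SL(4, F) →* G,
    (∀ d : SL(4, F), (d : Matrix (Fin 4) (Fin 4) F) = diagonal ![-1, -1, 1, 1] → ψ d = D.t) ∧
    (∀ X, 𝐝 X = 1 → D.m X 1 ∈ ψ.range ∧ D.m 1 X ∈ ψ.range) ∧ E.n ∈ ψ.range := by
  obtain ⟨σ, a1, a2⟩ := (h.hx p hq).pairs
  have a2 := a2.map (MulAut.conj E.w).toMonoidHom
  have e1 : (MulAut.conj E.w).toMonoidHom ∘ (fun s => E.φ (lo s)) = fun s => E.φ (up s) := funext fun s => by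
    rw [φ_up, ← E.w_inv, ← cji E.w (E.m _ _), w_up1, ← φ_lo]; rfl
  have e2 : (MulAut.conj E.w).toMonoidHom ∘ (fun s => E.φ (up s)) = fun s => E.φ (lo s) := funext fun s => by
    rw [φ_lo, ← w_up1, ← φ_up]; rfl
  rw [e1, e2] at a2
  have k1 : E.w ⋆ D.R = D.w ⋆ (D.ν ⋆ D.R) := h.Ew D.rt_R
  have k2 : E.w ⋆ (D.w ⋆ D.R) = D.fl.R := by rw [h.Ew r21, D.νw', D.ww', D.fl_R]
  have c : ∀ {X}, 𝐝 X = 1 → ∀ y ∈ D.w ⋆ (D.ν ⋆ D.R) ⊔ D.fl.R, Commute (D.φ X) y := fun {X} d y hy =>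
    (mem_cent.1 (show D.φ X ∈ 𝐂(D.w ⋆ (D.ν ⋆ D.R) ⊔ D.fl.R) by
      rw [cent_sup, ← fl_R, ← fl_w, D.φ_eq d]
      refine ⟨mem_cent.2 fun y hy => ?_, mem_cent.2 fun y hy => ?_⟩
      · obtain ⟨s, rfl⟩ := D.fl.mem_wR.1 hy
        rw [D.fl_m]; mm
      · obtain ⟨s, rfl⟩ := D.mem_R2.1 hy
        mm) y hy).symm
  have m1 : ∀ s, E.w * D.φ (up s) * E.w⁻¹ ∈ D.w ⋆ (D.ν ⋆ D.R) ⊔ D.fl.R := fun s =>
    mem_sup_left (k1 ▸ D.φ_up s ▸ Transfer.conj_mem_conj.2 (D.R_mem s))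
  have m2 : ∀ s, E.w * D.φ (lo s) * E.w⁻¹ ∈ D.w ⋆ (D.ν ⋆ D.R) ⊔ D.fl.R := fun s =>
    mem_sup_right (k2 ▸ D.φ_lo s ▸ Transfer.conj_mem_conj.2 (D.lo_mem s))
  obtain ⟨ψ, b1, b2⟩ := Pres.CTRels.exists_SL (n := 3) (p := ![_, _, _]) (m := ![_, _, _]) ⟨fun i => by
      fin_cases i
      exacts [a1.rk1.1, a1.rk1.2, a2.rk1.2], fun i j e => by
      rw [A_A] at e
      fin_cases i <;> fin_cases j <;> simp at e <;>
        simp only [List.forall_mem_cons, List.not_mem_nil, false_imp_iff, implies_true, and_true]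
      exacts [⟨⟨fun _ _ => c (dt_lo _) _ (m1 _), fun _ _ => c (dt_lo _) _ (m2 _)⟩,
        fun _ _ => c (dt_up _) _ (m1 _), fun _ _ => c (dt_up _) _ (m2 _)⟩, ⟨⟨fun _ _ => (c (dt_lo _) _ (m1 _)).symm,
        fun _ _ => (c (dt_up _) _ (m1 _)).symm⟩, fun _ _ => (c (dt_lo _) _ (m2 _)).symm, fun _ _ => (c (dt_up _) _ (m2 _)).symm⟩],
    fun i j e => by
      rw [A_A] at e
      fin_cases i <;> fin_cases j <;> simp at e
      exacts [a1, a1.symm, a2, a2.symm]⟩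
  have l1 : ∀ {X}, 𝐝 X = 1 → D.m X 1 ∈ ψ.range := D.L1_le
    (fun s => ⟨_, (b2 0 (σ.symm s)).trans (by simp [φ_up])⟩) fun s => ⟨_, (b1 0 (σ.symm s)).trans (by simp [φ_lo])⟩
  refine ⟨ψ, fun d hd => ?_, fun X d => ⟨l1 d, D.fl_m (A := X) (B := 1) ▸ D.fl.L1_le (fun s => ?_) (fun s => ?_) d⟩,
    E.L1_le (fun s => ⟨_, (b1 1 s).trans (E.φ_up s)⟩) (fun s => ⟨_, (b2 1 s).trans (E.φ_lo s)⟩) dt_jj⟩
  · have : d = (Pres.slP (n := 3) 0 1 * Pres.slM (n := 3) 0 (-1) * Pres.slP (n := 3) 0 1) ^ 2 := Subtype.ext (by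
      change _ = ((transvection 0 1 1 * transvection 1 0 (-1) * transvection 0 1 1) ^ 2 : Matrix (Fin 4) (Fin 4) F)
      rw [hd, sq]
      ext i j
      fin_cases i <;> fin_cases j <;> simp [transvection, mul_apply, Fin.sum_univ_four, one_apply, single_apply])
    rw [this, map_pow, map_mul, map_mul, b1, b2]
    simp only [cons_val_zero, map_one, map_neg, ← map_mul, ← map_pow]
    rw [show (lo 1 * up (-1) * lo 1 : GL (Fin 2) F) ^ 2 = ng by rw [sq]; apply gl_ext <;> ents <;> ring, φ_eq _ (by simp), t]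
  · obtain ⟨x, hx, e⟩ := k2.ge (D.fl.R_mem s)
    obtain ⟨r, rfl⟩ := D.mem_wR.1 hx
    exact ⟨_, (b2 2 (σ.symm r)).trans (by simpa [φ_lo] using e)⟩
  · obtain ⟨x, hx, e⟩ := k1.ge (D.fl_R ▸ D.fl_w ▸ D.fl.lo_mem s)
    obtain ⟨r, rfl⟩ := D.mem_R.1 hx
    exact ⟨_, (b1 2 (σ.symm r)).trans (by simpa [φ_up] using e)⟩

end Two

end Dat

end Cfsg.Lib.L4C
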