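import Cfsg.Agent.Lib.L4C.Mat

/-! Groups with an involution centralizer of type `L₄(q)`: the parametrization (helper16). -/

set_option autoImplicit false

namespace Cfsg.Lib.L4C

open Matrix Subgroup Cfsg.Lib.PSL2 Cfsg.Lib.GLTwo Cfsg.Lib.L3C Cfsg.Lib.BG Cfsg.Lib.Small Cfsg.Lib.GW
open Cfsg.Lib.Inv hiding conj_mem_of_mem_normalizer
open scoped Cfsg.Lib.Transfer

theorem pr_iff {F : Type*} [Field F] {A B : GL (Fin 2) F} : Pr A B ↔ 𝐝 A * 𝐝 B = 1 := Iff.rfl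

theorem pr_iff' {F : Type*} [Field F] {A B : GL (Fin 2) F} : Pr A B ↔ 𝐝 B = (𝐝 A)⁻¹ :=
  ⟨eq_inv_of_mul_eq_one_right, fun e => by rw [Pr, e, mul_inv_cancel]⟩

/-- closes determinant side goals -/
scoped syntax "prt" : tactic
macro_rules
  | `(tactic| prt) => `(tactic| first
    | assumption
    | (refine Pr.symm ?_; assumption)
    | ((with_reducible refine Pr.inv ?_); prt)
    | ((with_reducible refine Pr.mul ?_ ?_) <;> prt)
    | (simp [pr_iff, *]; done)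
    | (simp only [pr_iff] at *; simp [*]; done)
    | (simp only [pr_iff'] at *; simp [*, mul_comm, mul_left_comm]; done))

/-- A parametrization of the centralizer of the involution `m (-1) 1`. -/
structure Dat (F G : Type*) [Field F] [Group G] where
  /-- block diagonal matrices -/
  m : GL (Fin 2) F → GL (Fin 2) F → G
  /-- the swap -/
  ν : G
  two : (2 : F) ≠ 0
  mul : ∀ {A B C E}, Pr A B → Pr C E → m A B * m C E = m (A * C) (B * E)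
  ker : ∀ {A B}, Pr A B → (m A B = 1 ↔ ∃ z, A = dg z z ∧ B = dg z z)
  νν : ν * ν = 1
  swap : ∀ {A B}, Pr A B → ν * m A B = m B A * ν
  cent : ∀ {x}, x ∈ 𝐂[m ng 1] ↔ ∃ A B, Pr A B ∧ (x = m A B ∨ x = m A B * ν)

variable {F : Type*} [Field F] {G : Type*} [Group G] {A B C E P Q X Y : GL (Fin 2) F} {a b c d z : Fˣ} {r s : F}
  {g x y : G}

/-- the image of an additive map -/
def ad (f : F → G) (h : ∀ x y, f (x + y) = f x * f y) : Subgroup G :=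
  (MonoidHom.mk' (fun x : Multiplicative F => f x.toAdd) fun _ _ => h ..).range

theorem mem_ad {f : F → G} {h : ∀ x y, f (x + y) = f x * f y} : x ∈ ad f h ↔ ∃ s, f s = x :=
  ⟨fun ⟨y, e⟩ => ⟨y.toAdd, e⟩, fun ⟨y, e⟩ => ⟨Multiplicative.ofAdd y, e⟩⟩

namespace Dat
variable (D : Dat F G)

/-- the central involution -/
def t : G := D.m ng 1
/-- a second involution -/
def u : G := D.m dl dl
/-- the permutation matrix of `(1 2)(3 4)` -/
def w : G := D.m sw sw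
/-- the reflection `(1 2)` -/
def n : G := D.m jj 1

theorem one : D.m 1 1 = 1 := (D.ker .one).2 ⟨1, by simp⟩
theorem mul' (h : Pr A B) (k : Pr C E) (g : G) : D.m A B * (D.m C E * g) = D.m (A * C) (B * E) * g := by
  rw [← mul_assoc, D.mul h k]
theorem inv (h : Pr A B) : (D.m A B)⁻¹ = D.m A⁻¹ B⁻¹ :=
  inv_eq_of_mul_eq_one_right (by rw [D.mul h h.inv, mul_inv_cancel, mul_inv_cancel, one])
theorem ν_inv : D.ν⁻¹ = D.ν := inv_eq_of_mul_eq_one_right D.νν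
theorem νν' (g : G) : D.ν * (D.ν * g) = g := by rw [← mul_assoc, D.νν, one_mul]
theorem swap' (h : Pr A B) (g : G) : D.ν * (D.m A B * g) = D.m B A * (D.ν * g) := by
  rw [← mul_assoc, D.swap h, mul_assoc]

/-- normal form -/
scoped macro "mm" loc:(Lean.Parser.Tactic.location)? : tactic =>
  `(tactic| simp (disch := prt) only [Dat.t, Dat.u, Dat.w, Dat.n, mul_assoc, Dat.mul, Dat.mul', Dat.swap, Dat.swap',
    Dat.νν, Dat.νν', Dat.inv, Dat.ν_inv, _root_.mul_inv_rev, mul_one, one_mul, inv_inv, inv_one,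
    mul_inv_cancel, inv_mul_cancel, mul_inv_cancel_left, inv_mul_cancel_left] $[$loc]?)

theorem eq_iff (h : Pr A B) (k : Pr C E) : D.m A B = D.m C E ↔ ∃ z, A = dg z z * C ∧ B = dg z z * E := by
  rw [← mul_inv_eq_one, D.inv k, D.mul h k.inv, D.ker (h.mul k.inv)]
  simp only [mul_inv_eq_iff_eq_mul]
theorem eq (e : D.m A B = D.m C E) (h : Pr A B := by prt) (k : Pr C E := by prt) :
    ∃ z, A = dg z z * C ∧ B = dg z z * E := (D.eq_iff h k).1 e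
theorem sc (z : Fˣ) (e1 : A = dg z z * C) (e2 : B = dg z z * E) (h : Pr A B := by prt) (k : Pr C E := by prt) :
    D.m A B = D.m C E := (D.eq_iff h k).2 ⟨z, e1, e2⟩
theorem cjm (h : Pr P Q) (k : Pr A B) : D.m P Q * D.m A B * (D.m P Q)⁻¹ = D.m (P * A * P⁻¹) (Q * B * Q⁻¹) := by mm
theorem cjν (h : Pr A B) : D.ν * D.m A B * D.ν⁻¹ = D.m B A := by mm
theorem pow (h : Pr A B) (k : ℕ) : D.m A B ^ k = D.m (A ^ k) (B ^ k) := by
  induction k with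
  | zero => simp [one]
  | succ k ih => rw [pow_succ, ih, D.mul (h.pow k) h, pow_succ, pow_succ]
theorem comm (e : D.m A B * D.m C E = D.m C E * D.m A B) (h : Pr A B := by prt) (k : Pr C E := by prt) :
    ∃ z, A * C = dg z z * (C * A) ∧ B * E = dg z z * (E * B) := by
  rw [D.mul h k, D.mul k h] at e; exact D.eq e
theorem comm1 (e : D.m A B * D.m X 1 = D.m X 1 * D.m A B) (h : Pr A B := by prt) (k : Pr X 1 := by prt) :
    A * X = X * A := by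
  obtain ⟨z, e1, e2⟩ := D.comm e
  rw [mul_one, one_mul] at e2
  rwa [sc_eq_one e2, dg_one, one_mul] at e1
theorem comm2 (e : D.m A B * D.m 1 X = D.m 1 X * D.m A B) (h : Pr A B := by prt) (k : Pr 1 X := by prt) :
    B * X = X * B := by
  obtain ⟨z, e2, e1⟩ := D.comm e
  rw [mul_one, one_mul] at e2
  rwa [sc_eq_one e2, dg_one, one_mul] at e1
theorem inj1 (e : D.m X 1 = D.m Y 1) (h : Pr X 1 := by prt) (k : Pr Y 1 := by prt) : X = Y := by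
  obtain ⟨z, e1, e2⟩ := D.eq e
  rwa [sc_eq_one e2, dg_one, one_mul] at e1
theorem m12 (h : Pr X 1 := by prt) (k : Pr 1 Y := by prt) : D.m X 1 * D.m 1 Y = D.m 1 Y * D.m X 1 := by mm
theorem ne_ν (h : Pr A B) (k : Pr C E) : D.m A B * D.ν ≠ D.m C E := fun e => by
  have e1 : D.ν = D.m (A⁻¹ * C) (B⁻¹ * E) := by rw [← D.mul h.inv k, ← e]; mm; rw [one, one_mul]
  have e2 := D.swap (A := up 1) (B := 1) (by prt)
  have l := h.inv.mul k
  generalize A⁻¹ * C = X at *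
  generalize B⁻¹ * E = Y at *
  rw [e1] at e2
  mm at e2
  obtain ⟨z, e3, -⟩ := D.eq e2
  exact not_sc_up one_ne_zero ⟨z, by rw [← sc_comm, mul_right_inj] at e3; exact e3⟩

theorem t_eq : D.m 1 ng = D.t := D.sc (-1) ng_ng.symm (mul_one _).symm
theorem ng_ng' (h : Pr A B) : D.m (ng * A) (ng * B) = D.m A B := D.sc (-1) rfl rfl
theorem t_mul (h : Pr A B) : D.t * D.m A B = D.m (ng * A) B := by mm
theorem m_mem (h : Pr A B := by prt) : D.m A B ∈ 𝐂[D.t] := D.cent.2 ⟨A, B, h, .inl rfl⟩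
theorem ν_mem : D.ν ∈ 𝐂[D.t] := D.cent.2 ⟨1, 1, .one, .inr (by rw [one, one_mul])⟩
theorem cases (h : x ∈ 𝐂[D.t]) : ∃ A B, Pr A B ∧ (x = D.m A B ∨ x = D.m A B * D.ν) := D.cent.1 h
theorem ν_u : D.ν * D.u = D.u * D.ν := D.swap (by prt)
theorem ν_w : D.ν * D.w = D.w * D.ν := D.swap (by prt)
theorem tu_eq : D.t * D.u = D.m (dg (-1) 1) dl := by mm; rw [dg_mul]; simp

theorem four : FourGen D.t D.u := by
  have k := neg_ne D.two
  refine ⟨fun e => ?_, fun e => ?_, fun e => ?_, by mm; rw [ng_ng, one], by mm; rw [dl_dl, one],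
    (mem_cent1.1 D.m_mem).symm⟩
  · exact k (dg_inj.1 ((D.inj1 (e.trans D.one.symm)).trans dg_one.symm)).1
  · obtain ⟨z, e1, -⟩ := (D.ker (by prt)).1 e
    exact not_sc_dg k.symm ⟨z, e1⟩
  · obtain ⟨z, e1, -⟩ := D.eq e
    exact not_sc_dg k.symm (Sc.of_mul ⟨_, e1.symm⟩)

theorem t2 : orderOf D.t = 2 := D.four.orderOf_eq
theorem t_ne : D.t ≠ 1 := D.four.ne_one
theorem tt : D.t * D.t = 1 := D.four.sq
theorem ww : D.w * D.w = 1 := by mm; rw [sw_sw, one]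
theorem w_inv : D.w⁻¹ = D.w := inv_eq_of_mul_eq_one_right D.ww
theorem nn : D.n * D.n = D.t := by mm; rw [jj_jj]
theorem nt : D.n * D.t * D.n⁻¹ = D.t := cent1_iff.1 D.m_mem
theorem nu : D.n * D.u * D.n⁻¹ = D.t * D.u := by rw [n, u, D.cjm (by prt) (by prt), jj_dg, ← u, tu_eq]; simp
theorem wu : D.w ∈ 𝐂[D.u] := cent1_iff.2 (by
  rw [w, u, D.cjm (by prt) (by prt), sw_dg]; exact D.sc (-1) (by simp [dg_mul]) (by simp [dg_mul]))
theorem νu : D.ν ∈ 𝐂[D.u] := mem_cent1.2 D.ν_u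

/-- the block diagonal subgroup -/
def H : Subgroup G where
  carrier := {x | ∃ A B, Pr A B ∧ x = D.m A B}
  one_mem' := ⟨1, 1, .one, D.one.symm⟩
  mul_mem' := by rintro _ _ ⟨A, B, h, rfl⟩ ⟨C, E, k, rfl⟩; exact ⟨_, _, h.mul k, D.mul h k⟩
  inv_mem' := by rintro _ ⟨A, B, h, rfl⟩; exact ⟨_, _, h.inv, D.inv h⟩

/-- the diagonal subgroup -/
def T : Subgroup G where
  carrier := {x | ∃ a b c d, Pr (dg a b) (dg c d) ∧ x = D.m (dg a b) (dg c d)}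
  one_mem' := ⟨1, 1, 1, 1, by prt, by simp [one]⟩
  mul_mem' := by
    rintro _ _ ⟨a, b, c, d, h, rfl⟩ ⟨a', b', c', d', k, rfl⟩
    exact ⟨_, _, _, _, dg_mul a .. ▸ dg_mul c .. ▸ h.mul k, dg_mul a .. ▸ dg_mul c .. ▸ D.mul h k⟩
  inv_mem' := by
    rintro _ ⟨a, b, c, d, h, rfl⟩
    exact ⟨_, _, _, _, dg_inv a b ▸ dg_inv c d ▸ h.inv, dg_inv a b ▸ dg_inv c d ▸ D.inv h⟩

/-- the root group `U₁₂` -/
def R : Subgroup G := ad (fun s => D.m (up s) 1) fun _ _ => by mm; rw [up_add]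
/-- the diagonal of `U₁₂ U₃₄` -/
def K : Subgroup G := ad (fun s => D.m (up s) (up s)) fun _ _ => by mm; rw [up_add]

theorem H_mem (h : Pr A B := by prt) : D.m A B ∈ D.H := ⟨A, B, h, rfl⟩
theorem T_mem (h : Pr (dg a b) (dg c d) := by prt) : D.m (dg a b) (dg c d) ∈ D.T := ⟨a, b, c, d, h, rfl⟩
theorem R_mem (s : F) : D.m (up s) 1 ∈ D.R := mem_ad.2 ⟨s, rfl⟩
theorem K_mem (s : F) : D.m (up s) (up s) ∈ D.K := mem_ad.2 ⟨s, rfl⟩
theorem H_le : D.H ≤ 𝐂[D.t] := by rintro _ ⟨A, B, h, rfl⟩; exact D.m_mem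
theorem T_le : D.T ≤ D.H := by rintro _ ⟨a, b, c, d, h, rfl⟩; exact D.H_mem
theorem R_le : D.R ≤ D.H := fun x hx => by obtain ⟨s, rfl⟩ := mem_ad.1 hx; exact D.H_mem
theorem t_mem : D.t ∈ D.T := by rw [t, ← dg_one]; exact D.T_mem
theorem u_mem : D.u ∈ D.T := D.T_mem
theorem V_le : D.four.four ≤ D.T := D.four.four_le_iff.2 ⟨D.t_mem, D.u_mem⟩
theorem T_comm : D.T ≤ 𝐂(D.T) := le_cent_iff.2 (by
  rintro _ ⟨a, b, c, d, h, rfl⟩ _ ⟨a', b', c', d', k, rfl⟩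
  rw [D.mul h k, D.mul k h, dg_comm a, dg_comm c])
theorem T_comm' (hx : x ∈ D.T) (hy : y ∈ D.T) : x * y = y * x := le_cent_iff.1 D.T_comm x hx y hy
theorem ν_not : D.ν ∉ D.H := fun ⟨_, _, h, e⟩ => D.ne_ν .one h (by rw [one, one_mul, e])
theorem mν_not (hx : x ∈ D.H) : x * D.ν ∉ D.H := fun e => D.ν_not ((mul_mem_cancel_left hx).1 e)
theorem H_or (h : x ∈ 𝐂[D.t]) : x ∈ D.H ∨ ∃ y ∈ D.H, x = y * D.ν :=
  let ⟨_, _, k, e⟩ := D.cases h; e.imp (fun e => ⟨_, _, k, e⟩) fun e => ⟨_, D.H_mem, e⟩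
theorem ν_norm (h : x ∈ D.H) : D.ν * x * D.ν ∈ D.H := by
  obtain ⟨A, B, h, rfl⟩ := h; mm; exact D.H_mem
theorem mul_H (hx : x ∈ 𝐂[D.t]) (hy : y ∈ 𝐂[D.t]) (nx : x ∉ D.H) (ny : y ∉ D.H) : x * y ∈ D.H := by
  obtain ⟨x, hx', rfl⟩ := (D.H_or hx).resolve_left nx
  obtain ⟨y, hy', rfl⟩ := (D.H_or hy).resolve_left ny
  simpa only [mul_assoc] using mul_mem hx' (D.ν_norm hy')
theorem sq_H (hx : x ∈ 𝐂[D.t]) : x * x ∈ D.H :=
  (em (x ∈ D.H)).elim (fun e => mul_mem e e) fun e => D.mul_H hx hx e e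
theorem odd_H (hx : x ∈ 𝐂[D.t]) {k : ℕ} (o : Odd k) (e : x ^ k = 1) : x ∈ D.H := by
  obtain ⟨k, rfl⟩ := o
  rw [pow_succ, pow_mul, mul_eq_one_iff_inv_eq, sq] at e
  exact e ▸ inv_mem (pow_mem (D.sq_H hx) k)

theorem w_norm (h : x ∈ D.T) : D.w * x * D.w⁻¹ ∈ D.T := by
  obtain ⟨a, b, c, d, h, rfl⟩ := h
  rw [w, D.cjm (by prt) h, sw_dg, sw_dg]
  exact D.T_mem (by simpa [Pr, mul_comm] using h)
theorem ν_normT (h : x ∈ D.T) : D.ν * x * D.ν⁻¹ ∈ D.T := by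
  obtain ⟨a, b, c, d, h, rfl⟩ := h
  rw [D.cjν h]; exact D.T_mem
theorem n_norm (h : x ∈ D.T) : D.n * x * D.n⁻¹ ∈ D.T := by
  obtain ⟨a, b, c, d, h, rfl⟩ := h
  rw [n, D.cjm (by prt) h, jj_dg, one_mul, inv_one, mul_one]
  exact D.T_mem (by simpa [Pr, mul_comm] using h)

theorem cvH (h1 : x ∈ D.H) (h2 : x ∈ 𝐂[D.u]) : x ∈ D.T ∨ ∃ y ∈ D.T, x = y * D.w := by
  obtain ⟨A, B, h, rfl⟩ := h1
  obtain ⟨z, e1, e2⟩ := D.comm (mem_cent1.1 h2)
  rcases mono D.two e1 with ⟨rfl, a, b, rfl⟩ | ⟨rfl, a, b, rfl⟩ <;>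
    rcases mono D.two e2 with ⟨e, c, d, rfl⟩ | ⟨e, c, d, rfl⟩
  · exact .inl D.T_mem
  · exact absurd e.symm (neg_ne D.two)
  · exact absurd e (neg_ne D.two)
  · have k : Pr (dg a b) (dg c d) := by simpa [Pr] using h
    exact .inr ⟨_, D.T_mem, by mm⟩

/-- The centralizer of the four-group. -/
theorem cv (h1 : x ∈ 𝐂[D.t]) (h2 : x ∈ 𝐂[D.u]) :
    ∃ y ∈ D.T, x = y ∨ x = y * D.w ∨ x = y * D.ν ∨ x = y * D.w * D.ν := by
  rcases D.H_or h1 with h | ⟨y, h, rfl⟩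
  · exact (D.cvH h h2).elim (fun e => ⟨x, e, .inl rfl⟩) fun ⟨y, k, e⟩ => ⟨y, k, .inr (.inl e)⟩
  · exact (D.cvH h ((mul_mem_cancel_right D.νu).1 h2)).elim (fun e => ⟨y, e, .inr (.inr (.inl rfl))⟩)
      fun ⟨y, k, e⟩ => ⟨y, k, .inr (.inr (.inr (by rw [e])))⟩

theorem T_cu : D.T ≤ 𝐂[D.u] := fun _ h => mem_cent1.2 (D.T_comm' h D.u_mem)
theorem T_ct : D.T ≤ 𝐂[D.t] := D.T_le.trans D.H_le
theorem w_not : D.w ∉ D.T := fun ⟨a, b, c, d, h, e⟩ => by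
  obtain ⟨z, e, -⟩ := D.eq e
  simpa [gl_mul_apply] using (ent e).2.1

theorem sq_T (h1 : x ∈ 𝐂[D.t]) (h2 : x ∈ 𝐂[D.u]) : x * x ∈ D.T := by
  have k : ∀ y ∈ D.T, ∀ v : G, v * v = 1 → v * y * v⁻¹ ∈ D.T → y * v * (y * v) ∈ D.T := fun y hy v e h => by
    simpa only [mul_assoc, inv_eq_of_mul_eq_one_right e] using mul_mem hy h
  obtain ⟨y, hy, rfl | rfl | rfl | rfl⟩ := D.cv h1 h2
  exacts [mul_mem hy hy, k y hy _ D.ww (D.w_norm hy), k y hy _ D.νν (D.ν_normT hy), mul_assoc y D.w D.ν ▸ k y hy (D.w * D.ν)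
    (by rw [mul_assoc, ← mul_assoc D.ν, D.ν_w, mul_assoc, D.νν, mul_one, D.ww]) (by rw [cjc]; exact D.w_norm (D.ν_normT hy))]

theorem odd_T (h1 : x ∈ 𝐂[D.t]) (h2 : x ∈ 𝐂[D.u]) {k : ℕ} (o : Odd k) (e : x ^ k = 1) : x ∈ D.T := by
  obtain ⟨k, rfl⟩ := o
  rw [pow_succ, pow_mul, mul_eq_one_iff_inv_eq, sq] at e
  exact e ▸ inv_mem (pow_mem (D.sq_T h1 h2) k)

/-- the conjugate parametrization -/
def cj (g : G) : Dat F G where
  m A B := g * D.m A B * g⁻¹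
  ν := g * D.ν * g⁻¹
  two := D.two
  mul h k := by rw [← cj_mul, D.mul h k]
  ker h := by rw [← D.ker h, mul_inv_eq_one, mul_eq_left]
  νν := by rw [← cj_mul, D.νν]; simp
  swap h := by rw [← cj_mul, ← cj_mul, D.swap h]
  cent := by
    intro x
    rw [← conj_cent1, Transfer.mem_conj, D.cent]
    simp only [← cj_mul]
    refine exists₂_congr fun A B => and_congr_right fun _ => or_congr ?_ ?_ <;>
      exact ⟨fun e => by rw [← e]; group, fun e => by rw [e]; group⟩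

@[simp] theorem cj_t (g : G) : (D.cj g).t = g * D.t * g⁻¹ := rfl
@[simp] theorem cj_u (g : G) : (D.cj g).u = g * D.u * g⁻¹ := rfl
@[simp] theorem cj_ν (g : G) : (D.cj g).ν = g * D.ν * g⁻¹ := rfl
theorem cj_m (g : G) (A B : GL (Fin 2) F) : (D.cj g).m A B = g * D.m A B * g⁻¹ := rfl
theorem cj_H (g : G) : (D.cj g).H = g ⋆ D.H := ext fun x => Iff.trans
  ⟨fun ⟨A, B, h, e⟩ => ⟨A, B, h, by rw [e, cj_m]; group⟩, fun ⟨A, B, h, e⟩ => ⟨A, B, h, by rw [cj_m, ← e]; group⟩⟩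
  Transfer.mem_conj.symm
theorem cj_T (g : G) : (D.cj g).T = g ⋆ D.T := ext fun x => Iff.trans
  ⟨fun ⟨a, b, c, d, h, e⟩ => ⟨a, b, c, d, h, by rw [e, cj_m]; group⟩,
    fun ⟨a, b, c, d, h, e⟩ => ⟨a, b, c, d, h, by rw [cj_m, ← e]; group⟩⟩ Transfer.mem_conj.symm
theorem cj_R (g : G) : (D.cj g).R = g ⋆ D.R := by rw [R, R, ad, ad, MonoidHom.map_range]; rfl

/-- change of bases and of the swap -/
def ch (P Q : GL (Fin 2) F) (z : Fˣ) (hz : z * z = 1) : Dat F G where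
  m A B := D.m (P * A * P⁻¹) (Q * B * Q⁻¹)
  ν := D.m (P * Q⁻¹) (dg z z * (Q * P⁻¹)) * D.ν
  two := D.two
  mul h k := by rw [D.mul (h.cj ..) (k.cj ..), ← cj_mul, ← cj_mul]
  ker h := by
    rw [D.ker (h.cj ..)]
    simp only [mul_inv_eq_iff_eq_mul, ← sc_comm, mul_right_inj]
  νν := by
    have : Pr (P * Q⁻¹) (dg z z * (Q * P⁻¹)) := by simp [Pr, hz]
    mm
    rw [sc_lc, sc_lc]
    exact (D.ker (by simp [Pr, hz])).2 ⟨z, by simp, by simp⟩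
  swap {A B} h := by
    have : Pr (P * Q⁻¹) (dg z z * (Q * P⁻¹)) := by simp [Pr, hz]
    rw [mul_assoc, D.swap (h.cj ..), D.mul' this (h.symm.cj ..), D.mul' (h.symm.cj ..) this, sc_lc]
    simp only [mul_assoc, inv_mul_cancel_left]
  cent := by
    intro x
    have k : Pr (P * Q⁻¹) (dg z z * (Q * P⁻¹)) := by simp [Pr, hz]
    rw [sc_cj, mul_one, mul_inv_cancel]
    refine ⟨fun hx => ?_, fun ⟨A, B, h, e⟩ => e.elim (fun e => e ▸ D.m_mem (h.cj ..))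
      fun e => e ▸ mul_mem (D.m_mem (h.cj ..)) (mul_mem D.m_mem D.ν_mem)⟩
    obtain ⟨A, B, h, rfl | rfl⟩ := D.cases hx
    · exact ⟨_, _, h.cj P⁻¹ Q⁻¹, .inl (by simp [mul_assoc])⟩
    · exact ⟨_, _, (h.mul k.inv).cj P⁻¹ Q⁻¹, .inr (by
        rw [D.mul' (((h.mul k.inv).cj ..).cj ..) k]; simp only [mul_assoc, mul_inv_cancel_left, inv_inv, inv_mul_cancel, mul_one])⟩

theorem ch_m (P Q : GL (Fin 2) F) (hz : z * z = 1) (A B : GL (Fin 2) F) :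
    (D.ch P Q z hz).m A B = D.m (P * A * P⁻¹) (Q * B * Q⁻¹) := rfl
@[simp] theorem ch_t (P Q : GL (Fin 2) F) (hz : z * z = 1) : (D.ch P Q z hz).t = D.t := by
  rw [t, ch_m, sc_cj, mul_one, mul_inv_cancel, t]
@[simp] theorem ch_H (P Q : GL (Fin 2) F) (hz : z * z = 1) : (D.ch P Q z hz).H = D.H := ext fun _ =>
  ⟨fun ⟨_, _, h, e⟩ => ⟨_, _, h.cj .., e⟩, fun ⟨_, _, h, e⟩ => ⟨_, _, h.cj P⁻¹ Q⁻¹, by simp [e, ch_m, mul_assoc]⟩⟩

/-- simultaneous change of bases -/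
def bc (P : GL (Fin 2) F) : Dat F G := D.ch P P 1 (mul_one 1)
theorem bc_m (P A B : GL (Fin 2) F) : (D.bc P).m A B = D.m (P * A * P⁻¹) (P * B * P⁻¹) := rfl
@[simp] theorem bc_ν (P : GL (Fin 2) F) : (D.bc P).ν = D.ν := by simp [bc, ch, one]
@[simp] theorem bc_t (P : GL (Fin 2) F) : (D.bc P).t = D.t := D.ch_t ..
@[simp] theorem bc_H (P : GL (Fin 2) F) : (D.bc P).H = D.H := D.ch_H ..

theorem exists_ch (h : Pr A B) (e : D.m A B * D.ν * (D.m A B * D.ν) = 1) :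
    ∃ z hz, B = dg z z * A⁻¹ ∧ (D.ch 1 A⁻¹ z hz).ν = D.m A B * D.ν := by
  mm at e
  obtain ⟨z, e1, -⟩ := (D.ker (by prt)).1 e
  obtain rfl : B = dg z z * A⁻¹ := by rw [← sc_comm, ← e1, inv_mul_cancel_left]
  exact ⟨z, by simpa [Pr] using h, rfl, by simp [ch]⟩

end Dat

end Cfsg.Lib.L4C
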