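import Cfsg.Agent.Lib.L4C.Syl

/-! Groups with an involution centralizer of type `L₄(q)`: fusion of involutions (helper16). -/

set_option autoImplicit false

namespace Cfsg.Lib.L4C

open Matrix Subgroup Cfsg.Lib.PSL2 Cfsg.Lib.GLTwo Cfsg.Lib.L3C Cfsg.Lib.BG Cfsg.Lib.Small Cfsg.Lib.GW
open Cfsg.Lib.Inv hiding conj_mem_of_mem_normalizer
open scoped Cfsg.Lib.Transfer

variable {F : Type*} [Field F] {G : Type*} [Group G] {A B C P Q X Y : GL (Fin 2) F} {a b c d z : Fˣ} {r s : F}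
  {g x y v : G} {p : ℕ} {M N S : Subgroup G}

namespace Dat
variable (D : Dat F G) {E : Dat F G}

/-- two frames on the same four-group -/
def Pv (D E : Dat F G) : Prop := (E.t = D.u ∨ E.t = D.t * D.u) ∧ (D.t = E.u ∨ D.t = E.t * E.u)

namespace Pv
variable {D} (h : Pv D E)
include h

theorem symm : Pv E D := ⟨h.2, h.1⟩
theorem ne : E.t ≠ D.t := h.1.elim (fun e => e ▸ D.four.ne.symm) fun e => e ▸ D.four.mul_right.ne.symm
theorem t_mem : E.t ∈ D.T := h.1.elim (fun e => e ▸ D.u_mem) fun e => e ▸ mul_mem D.t_mem D.u_mem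
theorem ct (h1 : x ∈ 𝐂[D.t]) (h2 : x ∈ 𝐂[D.u]) : x ∈ 𝐂[E.t] :=
  h.1.elim (fun e => e ▸ h2) fun e => e ▸ mem_cent1_symm (mul_mem (mem_cent1_symm h1) (mem_cent1_symm h2))
theorem cu (h1 : x ∈ 𝐂[E.t]) (h2 : x ∈ 𝐂[D.t]) : x ∈ 𝐂[E.u] := h.2.elim (fun e => e ▸ h2) fun e =>
  mem_cent1_symm ((mul_mem_cancel_left (mem_cent1_symm h1)).1 (e ▸ mem_cent1_symm h2))
theorem T_ct (hx : x ∈ D.T) : x ∈ 𝐂[E.t] := h.ct (D.T_ct hx) (D.T_cu hx)
theorem T_cu (hx : x ∈ D.T) : x ∈ 𝐂[E.u] := h.cu (h.T_ct hx) (D.T_ct hx)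
theorem cjm (k : Pr A B := by prt) : D.t * E.m A B * D.t⁻¹ = E.m (dl * A * dl⁻¹) (dl * B * dl⁻¹) := by
  rw [← E.cjm (by prt) k]
  rcases h.2 with e | e <;> rw [e]
  · rfl
  · rw [cjc, cent1_iff.1 (mem_cent1_symm (mul_mem (mul_mem (E.T_ct E.u_mem) E.m_mem) (inv_mem (E.T_ct E.u_mem))))]; rfl
theorem isConj (e : IsConj E.t E.u) : IsConj E.t D.t :=
  h.2.elim (fun k => k ▸ e) fun k => k ▸ e.trans E.isU_tu.isConj
end Pv

theorem cj_pv (h1 : g * D.t * g⁻¹ = D.u) (h2 : g * D.u * g⁻¹ = D.t) : Pv D (D.cj g) ∧ Pv D (D.cj (D.n * g)) :=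
  ⟨⟨.inl h1, .inl h2.symm⟩, .inr (by rw [cj_t, cjc, h1, nu]), .inl (by rw [cj_u, cjc, h2, nt])⟩

theorem sc_of_norm (hM : ∀ A, 𝐝 A = 1 → D.m 1 A ∈ 𝐍(M)) (ht : D.t ∉ M) (h : Pr A B) (hx : D.m A B ∈ M) : Sc B := by
  have key : ∀ Y, Un Y → B * Y = Y * B := fun Y hY => by
    have d := hY.dt
    have := mul_mem hx (conj_mem_of_norm (hM Y d) (inv_mem hx))
    mm at this
    obtain ⟨z, e⟩ := by_contra fun n => ht (D.t_mem2 (fun A X a b c => by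
      have := conj_mem_of_norm (hM A a) c; mm at *; assumption) (by simp [d]) n this)
    have e : B * Y = dg z z * (Y * B) := by rw [← e]; group
    rw [e, hY.z_eq D.two hY e, dg_one, one_mul]
  obtain ⟨a, y, rfl⟩ := comm_up one_ne_zero (key _ (un_up 1))
  have := (ent (key _ (un_lo 1))).1
  ents at this
  exact ⟨a, by rw [show y = 0 from mul_left_cancel₀ a.ne_zero (by linear_combination this), up_zero, mul_one]⟩

variable (p) [hp : Fact p.Prime] [CharP F p]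
include hp

theorem pe_ν (hx : x ∈ 𝐂[D.t]) (hν : x ∈ 𝐂[D.ν]) (e : PE p x) : ∃ X, Un X ∧ x = D.m X X := by
  obtain ⟨X, Y, hX, hY, rfl⟩ := D.pe hx e
  have := hX.pr hY
  obtain ⟨z, e, -⟩ := D.eq ((mul_left_inj _).1 ((mem_cent1.1 hν).trans (D.swap this)))
  obtain rfl := hX.z_eq D.two hY (A := 1) (z := z) (by simpa using e)
  exact ⟨X, hX, by rw [e, dg_one, one_mul]⟩

theorem KK_YY (h : E.t = D.ν) : D.KK ≤ E.YY :=
  have k : ∀ X, Un X → D.m X X ∈ E.YY := fun X hX =>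
    let ⟨Y, Z, a, b, e⟩ := E.pe (p := p) (h ▸ D.K_ν X (hX.pr hX)) (D.pe_un hX hX); ⟨Y, Z, a.dt, b.dt, e⟩
  D.KK_le' (fun s => k _ (un_up s)) fun s => k _ (un_lo s)

theorem KK_KK (h : E.t = D.ν) (h' : E.ν = D.t) : D.KK ≤ E.KK :=
  have k : ∀ X, Un X → D.m X X ∈ E.KK := fun X hX =>
    let ⟨Y, a, e⟩ := E.pe_ν p (h ▸ D.K_ν X (hX.pr hX)) (h' ▸ D.m_mem (hX.pr hX)) (D.pe_un hX hX); ⟨Y, a.dt, e⟩
  D.KK_le' (fun s => k _ (un_up s)) fun s => k _ (un_lo s)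

theorem not_H (h : E.t = D.ν) (e : IsConj D.t D.ν) : D.t ∉ E.H :=
  E.p1 p (h ▸ e.symm) (fun k => D.ν_not (h ▸ k ▸ D.T_le D.t_mem)) (h ▸ D.K_ν (up 1)) D.m_mem
    (D.pe_un (un_up 1) (un_up 1)) (D.up_ne' one_ne_zero)

theorem fr (e : IsConj D.t D.ν) :
    ∃ E : Dat F G, E.t = D.ν ∧ E.ν = D.t ∧ E.m (up 1) (up 1) = D.m (up 1) (up 1) ∧ IsConj D.u E.u := by
  obtain ⟨g, f⟩ := isConj_iff.1 e
  obtain ⟨E, e1, e2, -, e3⟩ := (D.cj g).exists_ν (x := D.t) (f ▸ mem_cent1_symm D.ν_mem :) (D.not_H p f e) D.tt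
  obtain ⟨X, hX, k⟩ := E.pe_ν p (e1.trans f ▸ D.K_ν (up 1)) (e2 ▸ D.m_mem) (D.pe_un (un_up 1) (un_up 1))
  obtain ⟨P, rfl⟩ := hX.exists (by rintro rfl; exact D.up_ne' one_ne_zero (by prt) (k.trans E.one))
  exact ⟨E.bc P, (E.bc_t P).trans (e1.trans f), (E.bc_ν P).trans e2, k.symm,
    ((isConj_iff.2 ⟨g, rfl⟩).trans e3.isConj).trans (E.ch_u ..).isConj⟩

theorem ws3 (hn : ¬ IsSquare (-1 : F)) (h : Pv D E) (c : IsConj D.t E.t) (e : IsConj D.t D.u) (e' : IsConj E.t E.u) :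
    E.w ∉ D.H := fun k => by
  have k := (D.cls p k (c.trans (e'.trans E.isU_w.isConj))).resolve_left fun k => E.w_not (k ▸ h.symm.t_mem)
  refine E.f2 p hn ?_ (c.symm.trans (e.trans k.mul_t.isConj))
  have l : E.u * E.w = E.m jj jj := by mm; rw [jj_eq]
  rcases h.2 with f | f <;> rw [f]
  · exact ⟨_, _, dt_jj, dt_jj, jj_jj, jj_jj, l⟩
  · exact ⟨ng * jj, jj, by simp, dt_jj, by rw [mul_assoc, sc_lc, jj_jj, ← mul_assoc, ng_ng, one_mul], jj_jj,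
      by rw [mul_assoc, l, E.t_mul (by prt)]⟩

omit hp [CharP F p] in
theorem isU_det (h : D.IsU x) : ∃ A B, Pr A B ∧ 𝐝 A = 𝐝 B ∧ x = D.m A B := by
  obtain ⟨_, ⟨P, Q, k, rfl⟩, rfl⟩ := h
  exact ⟨_, _, Pr.cj (by prt) .., by simp, D.cjm k (by prt)⟩

variable [Finite F]

theorem ws1 (hi : a * a = -1) (h : Pv D E) (c : IsConj D.t E.t) (e' : IsConj E.t E.u) :
    ∃ σ ∈ E.T, E.w * σ * (E.w * σ) = 1 ∧ IsConj E.t (E.w * σ) ∧ E.w * σ ∉ D.H := by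
  have key : ∀ σ ∈ E.T, E.IsU (E.w * σ) → E.w * σ ∈ D.H → ∃ A B, Pr A B ∧ 𝐝 A = 𝐝 B ∧ E.w * σ = D.m A B :=
    fun σ hσ k l => D.isU_det ((D.cls p l (c.trans (e'.trans k.isConj))).resolve_left fun k =>
      E.w_not ((mul_mem_cancel_right hσ).1 (k ▸ h.symm.t_mem)))
  by_cases k1 : E.w * 1 ∈ D.H
  swap
  · exact ⟨1, one_mem _, by simp [ww], by simpa using e'.trans E.isU_w.isConj, k1⟩
  obtain ⟨k, hd, hk, l, hl⟩ := exists_chi D.two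
  have m : E.m (dg l l⁻¹) 1 ∈ E.T := by rw [← dg_one]; exact E.T_mem
  have q : sw * dg l l⁻¹ * (sw * dg l l⁻¹) = 1 := by apply gl_ext <;> simp
  have i : E.IsU (E.w * E.m (dg l l⁻¹) 1) := by
    mm
    exact E.isU q (fun ⟨_, e⟩ => by simpa [gl_mul_apply] using (ent e).2.1) sw_sw fun ⟨_, e⟩ => by simpa using (ent e).2.1
  refine ⟨_, m, by mm; rw [← mul_assoc, q, sw_sw, one], e'.trans i.isConj, fun k2 => ?_⟩
  obtain ⟨A, B, a1, a2, a3⟩ := key _ (one_mem _) (by simpa using E.isU_w) k1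
  obtain ⟨A', B', b1, b2, b3⟩ := key _ m i k2
  have f : E.m (dg l l⁻¹) 1 = D.m (A⁻¹ * A') (B⁻¹ * B') := by
    rw [← D.mul a1.inv b1, ← D.inv a1, ← a3, ← b3]; group
  have f1 : E.m (dg l l⁻¹) 1 ^ k = E.t := by rw [E.pow (by prt), dg_pow, inv_pow, hl, one_pow, t]; simp
  have f2 : 𝐝 (A⁻¹ * A') = 𝐝 (B⁻¹ * B') := by simp [a2, b2]
  have f3 := a1.inv.mul b1
  have ev : Even k := neg_one_pow_eq_one_iff_even (neg_ne D.two) |>.1 ((hk _).2 ⟨a, hi.symm⟩)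
  generalize A⁻¹ * A' = X at *
  generalize B⁻¹ * B' = Y at *
  have f4 : 𝐝 X ^ k = 1 := by
    obtain ⟨j, rfl⟩ := ev
    rw [← two_mul, pow_mul, sq]; rw [Pr, ← f2] at f3; rw [f3, one_pow]
  obtain ⟨z, e1, e2⟩ := D.comm (mem_cent1.1 (f ▸ h.symm.T_cu m))
  have s : ∀ {X : GL (Fin 2) F}, 𝐝 X ^ k = 1 → X * dl = dg z z * (dl * X) → Sc (X ^ k) := fun {X} e1 e2 => by
    rcases mono D.two e2 with ⟨-, a, b, rfl⟩ | ⟨-, a, b, rfl⟩
    · rw [dt_dg, mul_pow] at e1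
      exact ⟨a ^ k, by rw [dg_pow, eq_inv_of_mul_eq_one_right e1]; rcases hd a with e | e <;> simp [e]⟩
    · obtain ⟨j, rfl⟩ := ev
      exact ⟨_, by rw [← two_mul, pow_mul, sq, dgsw_sq, dg_pow]⟩
  rcases D.eq_t (f3.pow k) (s f4 e1) (s (f2 ▸ f4) e2) (by rw [← D.pow f3, ← f, f1, tt]) with e | e <;>
    rw [← D.pow f3, ← f, f1] at e
  exacts [E.t_ne e, h.ne e]

variable [Finite G]

omit [Finite F] in
theorem nuj (hn : ¬ IsSquare (-1 : F)) (h : D.IsJ x) : ¬ IsConj D.u x := fun e => by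
  have n : ¬ IsConj D.t D.u := fun k => D.f2 p hn h (k.trans e)
  obtain ⟨A, B, h1, h2, e1, e2, rfl⟩ := id h
  have a2 : D.m A 1 * D.m A 1 = D.t := by mm; rw [e1]
  obtain ⟨S, hS, l⟩ := Syl.exists_ge (M := 𝐂[D.m A B] ⊓ 𝐂[D.t]) (zp_pe (pe_four (x := D.m A 1) (by rw [a2, tt])))
    (zpowers_le.2 ⟨mem_cent1.2 (by mm), D.m_mem⟩)
  have hS' := hS.of_norm_le inf_le_left fun y hy => ⟨hy.1, cent1_iff.2 (by
    obtain ⟨C, E, c, k1, k2, k3⟩ := D.sq_det (hS.le (conj_mem_of_norm hy.2 (l (mem_zpowers _)))).2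
    rw [← cj_mul, a2] at k3
    exact (D.cls p (k3 ▸ D.H_mem) (isConj_iff.2 ⟨y, rfl⟩)).resolve_right fun k => D.not_isU hn k1 k2 (k3 ▸ k))⟩
  obtain ⟨g, f⟩ := isConj_iff.1 e
  obtain ⟨c, hc, k⟩ := hS'.exists_conj_le (zp_two (ord_conj D.t2 g)) (zpowers_le.2 (f ▸ cj_cent (D.T_cu D.t_mem) g))
  have k := (hS.le (k (Transfer.conj_mem_conj.2 (mem_zpowers _)))).2
  have f' : c * g * D.u * (c * g)⁻¹ = D.m A B := by rw [cjc, f, cent1_iff.1 hc]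
  rw [← cjc] at k
  generalize c * g = g at k f'
  have c1 : IsConj D.t (g * D.t * g⁻¹) := isConj_iff.2 ⟨g, rfl⟩
  have nu : ∀ x ∈ (D.cj g).YY, x ≠ D.m A B := by
    rintro _ ⟨X, Y, a, b, rfl⟩ e
    exact (D.cj g).not_isU hn (.sl a b) (c := 1) (by simpa using a) (e ▸ f' ▸ ⟨1, one_mem _, by simp⟩)
  by_cases m : g * D.t * g⁻¹ ∈ D.H
  · have m := cent1_iff.2 ((D.cls p m c1).resolve_right fun k => n (c1.trans k.isConj.symm))
    refine D.not_isU hn (c := 1) (.sl h1 h2) (by simpa using h1) (f' ▸ ?_)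
    rcases D.H_or m with j | ⟨y, j, rfl⟩
    exacts [⟨g, j, rfl⟩, ⟨y, j, by rw [cjc, cent1_iff.1 D.νu]⟩]
  obtain ⟨_, ⟨P, Q, k1, rfl⟩, k2⟩ := (D.H_or k).resolve_left m
  obtain ⟨z, hz, rfl, k3⟩ := D.exists_ch k1 (by rw [← k2, ← cj_mul, tt]; simp)
  have k4 : (D.cj g).t = (D.ch 1 P⁻¹ z hz).ν := k2.trans k3.symm
  have k5 := (D.ch 1 P⁻¹ z hz).KK_YY p k4
  have k6 := (D.ch 1 P⁻¹ z hz).not_H p k4 (by rw [← k4, ch_t]; exact c1)
  have k7 := mem_cent1.1 (f' ▸ cj_cent (D.T_ct D.u_mem) g)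
  have k8 : D.m A (P⁻¹ * A * P⁻¹⁻¹) ∈ (D.cj g).YY := k5 ⟨A, h1, by simp [ch_m]⟩
  rw [k2] at k7
  mm at k7
  obtain ⟨w, k9, -⟩ := D.eq ((mul_left_inj _).1 k7)
  have k9 : P⁻¹ * A * P⁻¹⁻¹ = dg w w * B := by rw [inv_inv, mul_assoc, k9, sc_lc, inv_mul_cancel_left]
  rcases usq.1 (show w * w = 1 by simpa [h1, h2] using (congrArg 𝐝 k9).symm) with rfl | rfl <;> rw [k9] at k8
  · exact nu _ k8 (by simp)
  · refine k6 ((mul_mem_cancel_right (f' ▸ ((D.cj g).T_le (D.cj g).u_mem : g * D.u * g⁻¹ ∈ _))).1 (?_ : _ * D.m A B ∈ _))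
    rw [ch_t, ← D.t_eq, D.mul (by prt) (by prt), one_mul]
    exact (D.cj g).YY_le k8

variable (hG : ∀ H : Subgroup G, H.index ≠ 2)
include hG

theorem u_conj' (e : IsConj D.t D.ν) : IsConj D.t D.u := by
  obtain ⟨E, e1, e2, -, e3⟩ := D.fr p e
  have l := D.KK_KK p e1 e2
  by_cases s : IsSquare (-1 : F)
  · obtain ⟨i, hi⟩ := exists_i s
    have f : D.u = D.m (dg i i * dl) (dg i i * dl) := (D.sc i rfl rfl (by simp [Pr, hi])).symm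
    obtain ⟨a, b⟩ := E.KK_inv (l ⟨_, by simp [hi], f⟩) D.four.sq' D.four.ne_one'
    have c := (a.isU hi).isConj.symm.trans (b.isU hi).isConj
    rw [e1, D.ν_u] at c
    refine e.trans (IsConj.trans ?_ c.symm)
    rw [f]
    exact (D.swap_sq (c := 1) (by simp [Pr, hi]) (by simp [hi]) (by
      rw [← f, mul_assoc, ← mul_assoc D.ν, D.ν_u, mul_assoc, D.νν, mul_one, D.four.sq'])).elim id
      (isConj_iff.2 ⟨_, D.tν hi⟩).trans
  have nu : ∀ {x A B c}, Pr A B → 𝐝 A = c * c → D.IsU x → x ≠ D.m A B := fun h k a b => D.not_isU s h k (b ▸ a)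
  obtain ⟨g, A, B, c, h, k, f⟩ := D.thompson hG (M := D.MM) (fun _ a _ b => D.mul_MM a b) (D.T_ct D.u_mem) (by
    rintro ⟨A, B, c, h, k, f | f⟩
    exacts [nu h k ⟨1, one_mem _, by simp⟩ f, D.ne_ν h (by prt) f.symm]) D.four.sq'
  have q : g * D.u * g⁻¹ * (g * D.u * g⁻¹) = 1 := (D.four.symm.conj g).sq
  have c1 : IsConj D.u (g * D.u * g⁻¹) := isConj_iff.2 ⟨g, rfl⟩
  rcases f with f | f
  · rcases D.inv_cases (f ▸ D.H_mem) q with i | i | i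
    exacts [absurd f (nu h k i), absurd c1 (D.nuj p s i),
      ((D.S_three s i q).resolve_left (conj_ne_one D.four.ne_one') ▸ c1).symm]
  rw [f] at q c1
  refine (D.swap_sq h k q).elim (fun i => e.trans (i.trans c1.symm)) fun i => absurd ?_ (E.nuj p s (E.KK_inv
    (l ⟨jj, dt_jj, rfl⟩) (by mm; rw [jj_jj]; exact (D.ker (by prt)).2 ⟨_, rfl, rfl⟩)
    fun e => let ⟨z, e, _⟩ := (D.ker (by prt)).1 e; not_sc_jj ⟨z, e⟩).2)
  refine e3.symm.trans (c1.trans (i.symm.trans (IsConj.symm (isConj_iff.2 ⟨D.n, ?_⟩))))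
  rw [e1]; mm; rw [jj_jj]

theorem u_conj : ∃ E : Dat F G, E.t = D.t ∧ IsConj E.t E.u := by
  obtain ⟨v, h, e, n⟩ := D.zstar hG
  by_cases k : v ∈ D.H
  · exact ⟨D, rfl, e.trans ((D.cls p k e).resolve_left n).isConj.symm⟩
  obtain ⟨g, f⟩ := isConj_iff.1 e
  obtain ⟨E, e1, e2, -⟩ := D.exists_ν h k (by rw [← f, ← cj_mul, tt]; simp)
  exact ⟨E, e1, E.u_conj' p hG (e1 ▸ e2 ▸ e)⟩

/-- All the relevant involutions are conjugate. -/
theorem fusion : ∃ E : Dat F G, E.t = D.t ∧ IsConj E.t E.u ∧ IsConj E.t E.ν := by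
  obtain ⟨D, e0, e⟩ := D.u_conj p hG
  obtain ⟨g, g1, g2⟩ := D.flip p e
  have h := (D.cj_pv g1 g2).1
  have c : IsConj D.t (D.cj g).t := isConj_iff.2 ⟨g, rfl⟩
  have e' : IsConj (D.cj g).t (D.cj g).u := c.symm.trans (e.trans (isConj_iff.2 ⟨g, rfl⟩))
  obtain ⟨σ, s1, s2, s3, s4⟩ : ∃ σ ∈ (D.cj g).T, (D.cj g).w * σ * ((D.cj g).w * σ) = 1 ∧
      IsConj (D.cj g).t ((D.cj g).w * σ) ∧ (D.cj g).w * σ ∉ D.H := by
    by_cases s : IsSquare (-1 : F)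
    · obtain ⟨i, hi⟩ := exists_i s
      exact D.ws1 p hi h c e'
    · exact ⟨1, one_mem _, by simp [ww], by simpa using e'.trans (D.cj g).isU_w.isConj, by simpa using D.ws3 p s h c e e'⟩
  obtain ⟨E, e1, e2, -, e3⟩ := D.exists_ν (mul_mem (h.symm.ct (D.cj g).m_mem (D.cj g).wu) (h.symm.T_ct s1)) s4 s2
  exact ⟨E, e1.trans e0, e1 ▸ e.trans e3.isConj, e1 ▸ e2 ▸ c.trans s3⟩

omit hG [Finite F] in
theorem eq_bot [hN : N.Normal] (o : Odd (Nat.card N)) (e : IsConj D.t D.u) (e' : IsConj D.t D.ν) : N = ⊥ := by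
  have key : ∀ D : Dat F G, ∀ x ∈ N ⊓ 𝐂[D.t], ∃ a c, Pr (dg a a) (dg c c) ∧ x = D.m (dg a a) (dg c c) := fun D x hx => by
    have ht : ∀ D : Dat F G, D.t ∉ N := fun D k => absurd (D.t2 ▸ odd_orderOf_of_mem o k) (by decide)
    obtain ⟨A, B, h, rfl⟩ := D.odd_H hx.2 (odd_orderOf_of_mem o hx.1) (pow_orderOf_eq_one x)
    obtain ⟨c, rfl⟩ := D.sc_of_norm (fun _ _ => le_normalizer_of_normal (mem_top _)) (ht D) h hx.1
    obtain ⟨a, rfl⟩ := D.fl.sc_of_norm (fun _ _ => le_normalizer_of_normal (mem_top _)) (ht _) h.symm (D.fl_m h.symm ▸ hx.1)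
    exact ⟨a, c, h, rfl⟩
  have k : ∀ {E : Dat F G}, Pv D E → N ⊓ 𝐂[E.t] ≤ 𝐂[D.t] := fun h x hx => by
    obtain ⟨a, c, k, rfl⟩ := key _ x hx
    exact h.symm.T_ct (T_mem _)
  obtain ⟨g, g1, g2⟩ := D.flip p e
  obtain ⟨g', e'⟩ := isConj_iff.1 e'
  have l := gen_four D.four (le_normalizer_of_normal (mem_top _)) (le_normalizer_of_normal (mem_top _)) o inf_le_right
    (by simpa only [cj_t, g1] using k (D.cj_pv g1 g2).1) (by simpa only [cj_t, cjc, g1, nu] using k (D.cj_pv g1 g2).2)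
  refine cent_bot_of_inverts (x := D.ν) o (fun x hx => ?_) ▸ (inf_eq_left.2 fun x hx => ?_).symm
  · obtain ⟨a, c, k, rfl⟩ := key D x ⟨hx, l hx⟩
    rw [D.cjν k, eq_inv_iff_mul_eq_one, D.mul k.symm k, dg_mul, dg_mul, mul_comm c]
    exact (D.ker (by rw [Pr, dt_dg, mul_mul_mul_comm a, show a * a * (c * c) = 1 by simpa [Pr] using k, mul_one])).2 ⟨_, rfl, rfl⟩
  · simpa only [cij, e'] using cj_cent (l (hN.conj_mem x hx g'⁻¹)) g'

omit hp [CharP F p] in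
theorem eq_top [hN : N.Normal] (o : Even (Nat.card N)) (e : IsConj D.t D.u) (e' : IsConj D.t D.ν) : N = ⊤ := by
  have nm : ∀ {S : Subgroup G}, S ≤ 𝐍(N) := fun {_} => le_normalizer_of_normal
  obtain ⟨S, hS⟩ := Syl.exists 2 𝐂[D.t]
  have hS' := (D.syl hS).inf le_top nm
  obtain ⟨Q, q1, q2, -, q3⟩ := D.exists_Q
  obtain ⟨h, hh, q4⟩ := hS.exists_conj_le q2 (q1.trans (D.YY_le.trans D.H_le))
  obtain ⟨v, v1, v2⟩ := exists_involution_mem_of_isPGroup (hS.pgroup.to_le (inf_le_left.trans inf_le_left))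
    (nil_meet_center hS.nil inf_le_left (norm_inf (le_norm S) nm) (Syl.ne_bot' hS' o.two_dvd))
  have ht : D.t ∈ N := ((q3 h hh v (hS.le v1.1.1) (by rw [← sq, ← v2, pow_orderOf_eq_one]) (cent_anti q4 v1.2)).resolve_left
    (by rintro rfl; simp at v2)) ▸ v1.1.2
  have cj : ∀ {x}, IsConj D.t x → x ∈ N := fun k => let ⟨g, k⟩ := isConj_iff.1 k; k ▸ hN.conj_mem _ ht g
  have l1 : ∀ {D : Dat F G} {X}, D.u ∈ N → 𝐝 X = 1 → D.m X 1 ∈ N := fun {D X} hu => by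
    have k : ∀ X : GL (Fin 2) F, 𝐝 X = 1 → D.m (X * (dl * X⁻¹ * dl⁻¹)) 1 ∈ N := fun X d => by
      have := mul_mem (hN.conj_mem _ hu (D.m X 1)) (inv_mem hu); mm at this ⊢; exact this
    have h2 := D.two
    refine D.L1_le (fun s => ?_) fun s => ?_
    · simpa only [← up_neg, dg_up, ← up_add, show s / 2 + ((1 : Fˣ) : F) / (-1 : Fˣ) * -(s / 2) = s by
        simp; field_simp; ring] using k (up (s / 2)) (dt_up _)
    · simpa only [← lo_neg, dg_lo, ← lo_add, show s / 2 + ((-1 : Fˣ) : F) / (1 : Fˣ) * -(s / 2) = s by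
        simp; field_simp; ring] using k (lo (s / 2)) (dt_lo _)
  have l2 : ∀ {X}, 𝐝 X = 1 → D.m 1 X ∈ N := fun {X} d => D.fl_m (A := X) (B := 1) ▸ l1 (D.fl_u ▸ cj e) d
  have l3 : D.MM ≤ N := by
    have : ∀ A B c, Pr A B → 𝐝 A = c * c → D.m A B ∈ N := fun A B c h k => by
      have l : Pr (dg c 1) (A⁻¹ * dg c 1) := by simp [Pr, k]
      have := mul_mem (mul_mem (hN.conj_mem _ (cj e') (D.m (dg c 1) (A⁻¹ * dg c 1))) (cj e')) (l2 (X := A * B) (by simpa [Pr] using h))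
      mm at this; exact this
    rintro _ ⟨A, B, c, h, k, rfl | rfl⟩
    exacts [this A B c h k, mul_mem (this A B c h k) (cj e')]
  have l4 : h ⋆ Q ≤ S ⊓ N := le_inf q4 (Transfer.conj_le_iff.2 fun x hx => hN.conj_mem _ (by
    obtain ⟨A, B, a, b, rfl⟩ := q1 hx
    exact l3 ⟨A, B, 1, .sl a b, by simpa using a, .inl rfl⟩) h)
  have l5 : ∀ g, ∃ n ∈ N, ∃ c ∈ 𝐂[D.t], n * c = g := fun g => by
    obtain ⟨n, hn, c, hc, k⟩ := (mem_sup_left_norm nm).1 ((Syl.frattini hS' ⟨le_top, nm⟩).ge (mem_top g))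
    have hts : D.t ∈ S := hS.ge_of_norm_p (zpowers_le.2 (self_mem_cent1 _)) (zp_two D.t2)
      (norm_of_cent (by rw [cent_zpowers]; exact hS.le)) (mem_zpowers _)
    refine ⟨n, hn, c, cent1_iff.2 ((q3 h hh _ (hS.le (conj_mem_of_norm hc.2 ⟨hts, ht⟩).1) (D.four.conj c).sq
      (cent_anti l4 ?_)).resolve_left (conj_ne_one D.t_ne)), k⟩
    rw [← conj_eq_of_norm hc.2, ← Transfer.conj_centralizer]
    exact Transfer.conj_mem_conj.2 (le_cent1_iff.1 (inf_le_left.trans hS.le))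
  by_contra n
  obtain ⟨g, -, n⟩ := SetLike.not_le_iff_exists.1 (mt top_le_iff.1 n)
  obtain ⟨_, a, g, b, rfl⟩ := l5 g
  rw [mul_mem_cancel_left a] at n
  refine hG N (index_eq_two_iff.2 ⟨g, fun x => ?_⟩)
  obtain ⟨_, a, x, c, rfl⟩ := l5 x
  rw [mul_assoc, mul_mem_cancel_left a, mul_mem_cancel_left a]
  exact (em (x ∈ N)).elim (fun k => .inr ⟨k, fun c => n ((mul_mem_cancel_left k).1 c)⟩)
    fun k => .inl ⟨l3 (D.mul_MM c b (mt (@l3 _) k) (mt (@l3 _) n)), k⟩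

include D in
theorem simple : IsSimpleGroup G :=
  let ⟨E, _, e, e'⟩ := D.fusion p hG
  have := nontrivial_of_ne _ _ D.t_ne
  ⟨fun N _ => (Nat.even_or_odd (Nat.card N)).symm.imp (E.eq_bot p · e e') (E.eq_top hG · e e')⟩

end Dat

end Cfsg.Lib.L4C
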