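import Cfsg.Agent.Lib.L4C.Fus

/-! Groups with an involution centralizer of type `L₄(q)`: a second frame with commuting root groups (helper16). -/

set_option autoImplicit false

namespace Cfsg.Lib.L4C

open Matrix Subgroup Cfsg.Lib.PSL2 Cfsg.Lib.GLTwo Cfsg.Lib.L3C Cfsg.Lib.BG Cfsg.Lib.Small Cfsg.Lib.GW
open Cfsg.Lib.Inv hiding conj_mem_of_mem_normalizer
open scoped Cfsg.Lib.Transfer

variable {F : Type*} [Field F] {G : Type*} [Group G] {A B C P Q X Y : GL (Fin 2) F} {a b c d z : Fˣ} {r s : F}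
  {g x y v : G} {p : ℕ} {M N S : Subgroup G}

theorem inv_up (h : A * up 1 = up (-1) * A) (x : F) : A * up x * A⁻¹ = up (-x) := by
  obtain ⟨a, d, y, rfl⟩ := exists_bor (norm_up one_ne_zero h)
  rw [← mul_inv_eq_iff_eq_mul, cjc, up_cj, dg_up, up_inj, mul_one] at h
  rw [cjc, up_cj, dg_up, h, neg_one_mul]

theorem sw_dl : (sw : GL (Fin 2) F) * dl * sw⁻¹ = ng * dl := by rw [sw_dg, dg_mul]; simp

namespace Dat
variable (D : Dat F G) {E : Dat F G}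

theorem w_H : D.w ∈ D.H := D.H_mem
theorem w_mem : D.w ∈ 𝐂[D.t] := D.m_mem
theorem mem_R : x ∈ D.R ↔ ∃ s, D.m (up s) 1 = x := mem_ad
theorem mem_K : x ∈ D.K ↔ ∃ s, D.m (up s) (up s) = x := mem_ad
theorem mem_R2 : x ∈ D.fl.R ↔ ∃ s, D.m 1 (up s) = x := mem_ad.trans (exists_congr fun s => by rw [D.fl_m])
theorem R2_mem (s : F) : D.m 1 (up s) ∈ D.fl.R := D.mem_R2.2 ⟨s, rfl⟩
theorem T_up (h : Pr (dg a b) (dg c d)) (r s : F) : D.m (dg a b) (dg c d) * D.m (up r) (up s) * (D.m (dg a b) (dg c d))⁻¹ =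
    D.m (up (a / b * r)) (up (c / d * s)) := by rw [D.cjm h (by prt), dg_up, dg_up]
theorem T_lo (h : Pr (dg a b) (dg c d)) (r s : F) : D.m (dg a b) (dg c d) * D.m (lo r) (lo s) * (D.m (dg a b) (dg c d))⁻¹ =
    D.m (lo (b / a * r)) (lo (d / c * s)) := by rw [D.cjm h (by prt), dg_lo, dg_lo]
theorem w_up (r s : F) : D.w * D.m (up r) (up s) * D.w⁻¹ = D.m (lo r) (lo s) := by
  rw [w, D.cjm (by prt) (by prt), sw_up, sw_up]
theorem T_up1 (h : Pr (dg a b) (dg c d)) (r : F) : D.m (dg a b) (dg c d) * D.m (up r) 1 * (D.m (dg a b) (dg c d))⁻¹ =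
    D.m (up (a / b * r)) 1 := by simpa using D.T_up h r 0
theorem T_lo1 (h : Pr (dg a b) (dg c d)) (r : F) : D.m (dg a b) (dg c d) * D.m (lo r) 1 * (D.m (dg a b) (dg c d))⁻¹ =
    D.m (lo (b / a * r)) 1 := by simpa using D.T_lo h r 0
theorem w_up1 (r : F) : D.w * D.m (up r) 1 * D.w⁻¹ = D.m (lo r) 1 := by simpa using D.w_up r 0
theorem T_norm : D.T ≤ 𝐍(D.R) := le_norm_iff.2 (by
  rintro _ ⟨a, b, c, d, h, rfl⟩ x hx
  obtain ⟨s, rfl⟩ := D.mem_R.1 hx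
  exact D.T_up1 h s ▸ D.R_mem _)
@[simp] theorem fl_T : D.fl.T = D.T := ext fun _ =>
  ⟨fun ⟨a, b, c, d, h, e⟩ => ⟨c, d, a, b, h.symm, e.trans (D.fl_m h)⟩, fun ⟨a, b, c, d, h, e⟩ =>
    ⟨c, d, a, b, h.symm, e.trans (D.fl_m h.symm).symm⟩⟩
theorem T_norm2 : D.T ≤ 𝐍(D.fl.R) := D.fl_T ▸ D.fl.T_norm

theorem exists_ν' (h : x ∈ 𝐂[D.t]) (h' : x ∈ 𝐂[D.u]) (n : x ∉ D.H) (e : x * x = 1) :
    ∃ E : Dat F G, E.t = D.t ∧ E.ν = x ∧ (E.u = D.u ∨ E.u = D.t * D.u) := by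
  obtain ⟨_, ⟨A, B, k, rfl⟩, rfl⟩ := (D.H_or h).resolve_left n
  obtain ⟨z, hz, -, e⟩ := D.exists_ch k e
  refine ⟨_, D.ch_t .., e, ?_⟩
  obtain ⟨w, f, -⟩ := D.comm (mem_cent1.1 ((mul_mem_cancel_right D.νu).1 h'))
  have f' : A⁻¹ * dl * A⁻¹⁻¹ = dg w⁻¹ w⁻¹ * dl := by
    rw [← dg_inv, eq_inv_mul_iff_mul_eq, ← mul_assoc, ← mul_assoc, ← sc_comm, mul_assoc, mul_assoc, inv_inv, ← f]; simp
  rw [u, ch_m, f', one_mul, inv_one, mul_one]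
  rcases usq.1 (sq_of_comm f) with rfl | rfl
  · exact .inl (by simp [u])
  · exact .inr (by rw [← D.t_eq]; mm; simp)

theorem Pv.of {D E E' : Dat F G} (h : Pv D E) (e : E'.t = E.t) (k : E'.u = E.u ∨ E'.u = E.t * E.u) : Pv D E' :=
  ⟨e ▸ h.1, by rcases h.2 with f | f <;> rcases k with k | k <;> simp [f, e, k, E.four.mul_mul_left]⟩

theorem Pv.inv {D : Dat F G} (h : Pv D E) (r s : F) : D.t * E.m (up r) (up s) * D.t⁻¹ = (E.m (up r) (up s))⁻¹ := by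
  rw [h.cjm, dg_up, dg_up, E.inv (by prt), ← up_neg, ← up_neg]; simp [div_neg]

theorem Pv.not_mem {D : Dat F G} (h : Pv D E) (k : Pr (up 1) (up s) := by prt) : D.t ∉ 𝐂[E.m (up 1) (up s)] := fun e => by
  have := (cent1_iff.1 e).symm.trans (h.inv 1 s)
  rw [eq_inv_iff_mul_eq_one, E.mul k k, ← up_add, one_add_one_eq_two] at this
  exact E.up_ne' E.two (by prt) this

theorem two_ratios (hK : D.K ≤ M) (n : r ≠ s) (h : ∀ x, D.m (up (r * x)) (up (s * x)) ∈ M) : D.R ≤ M ∧ D.fl.R ≤ M := by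
  have n' := sub_ne_zero.2 n
  refine ⟨fun x hx => ?_, fun x hx => ?_⟩
  · obtain ⟨x, rfl⟩ := D.mem_R.1 hx
    have := mul_mem (h (x / (r - s))) (hK (D.K_mem (-(s * (x / (r - s))))))
    rwa [D.mul (by prt) (by prt), ← up_add, ← up_add, add_neg_cancel, up_zero, ← sub_eq_add_neg, ← sub_mul,
      mul_div_cancel₀ _ n'] at this
  · obtain ⟨x, rfl⟩ := D.mem_R2.1 hx
    have := mul_mem (h (-x / (r - s))) (hK (D.K_mem (-(r * (-x / (r - s))))))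
    rwa [D.mul (by prt) (by prt), ← up_add, ← up_add, add_neg_cancel, up_zero, ← sub_eq_add_neg, ← sub_mul,
      show (s - r) * (-x / (r - s)) = x by field_simp; ring] at this

theorem lo_case (hK : D.K ≤ M) (h : ∀ x, D.m (lo x) (lo (-x)) ∈ M) : D.t ∈ M := by
  have k : ∀ A, 𝐝 A = 1 → ∃ B, 𝐝 B = 1 ∧ D.m B A ∈ M := fun A a =>
    (mem_of_up_lo (N := ⟨⟨⟨{A | 𝐝 A = 1 ∧ ∃ B, 𝐝 B = 1 ∧ D.m B A ∈ M}, fun ⟨a, B, b, c⟩ ⟨a', B', b', c'⟩ =>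
      ⟨by simp [*], B * B', by simp [*], D.mul (.sl b a) (.sl b' a') ▸ mul_mem c c'⟩⟩, by simp, 1, by simp, D.one ▸ one_mem _⟩,
      fun ⟨a, B, b, c⟩ => ⟨by simp [*], B⁻¹, by simp [*], D.inv (.sl b a) ▸ inv_mem c⟩⟩)
      (fun s => ⟨dt_up s, _, dt_up s, hK (D.K_mem s)⟩) (fun s => ⟨dt_lo s, _, dt_lo _, neg_neg s ▸ h (-s)⟩) a).2
  have e := mul_mem (mul_mem (hK (D.K_mem 1)) (h (-1))) (hK (D.K_mem 1))
  rw [D.mul (by prt) (by prt), D.mul (by prt) (by prt), up_lo_up1, neg_neg] at e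
  have e := pow_mem e 4
  rw [D.pow (by prt), show (jj : GL (Fin 2) F) ^ 4 = jj * jj * (jj * jj) by simp [pow_succ, mul_assoc], jj_jj, ng_ng] at e
  by_cases s : Sc ((up 1 * lo 1 * up 1 : GL (Fin 2) F) ^ 4)
  · obtain ⟨a, s⟩ := s
    obtain ⟨e1, -, e2, -⟩ := ent s
    simp only [pow_succ, pow_zero, one_mul] at e1 e2
    ents at e1 e2
    rwa [s, show a = -1 from Units.ext (mul_left_cancel₀ (pow_ne_zero 2 D.two) (by
      simp only [Units.val_neg, Units.val_one]; linear_combination (-4) * e1 + 7 * e2)), t_eq] at e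
  exact D.t_mem2 (fun A X a b c => by
    obtain ⟨B, b', k⟩ := k A a
    have := mul_mem (mul_mem k c) (inv_mem k)
    mm at this ⊢; exact this) (by simp) s e

theorem exists_T (hq : a * a ≠ 1) : ∃ x ∈ D.T, ∃ y ∈ D.T, x ∉ 𝐂[D.ν] ∧ y ∉ 𝐂[D.ν] ∧ x * y ∉ 𝐂[D.ν] := by
  have key : ∀ {a b c d}, Pr (dg a b) (dg c d) → D.m (dg a b) (dg c d) ∈ 𝐂[D.ν] → ∃ z, a = z * c ∧ b = z * d ∧ c = z * a :=
    fun h e => by
      obtain ⟨z, e1, e2⟩ := D.eq ((mul_left_inj _).1 ((mem_cent1.1 e).trans (D.swap h)))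
      rw [dg_mul, dg_inj] at e1 e2
      exact ⟨z, e1.1, e1.2, e2.1⟩
  refine ⟨_, D.T_mem (a := a) (b := a⁻¹) (c := 1) (d := 1), _, D.T_mem (a := a) (b := 1) (c := 1) (d := a⁻¹),
    fun e => ?_, fun e => ?_, fun e => ?_⟩
  · obtain ⟨z, e1, -, e2⟩ := key (by prt) e
    exact hq (by rw [e2, e1, mul_one])
  · obtain ⟨z, e1, -, e2⟩ := key (by prt) e
    exact hq (by rw [e2, e1, mul_one])
  · rw [D.mul (by prt) (by prt), dg_mul, dg_mul] at e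
    obtain ⟨z, e1, e2, -⟩ := key (by prt) e
    exact hq (by simpa [show z = 1 by simpa using e2] using e1)

theorem T_le_T (hq : a * a ≠ 1) (h : Pv D E) (hν : E.ν = D.ν) (h1 : E.R ≤ 𝐂(D.R ⊔ D.fl.R))
    (h2 : E.fl.R ≤ 𝐂(D.R ⊔ D.fl.R)) : D.T ≤ E.T := by
  have nm := norm_cent (norm_sup D.T_norm D.T_norm2)
  have key : ∀ x ∈ D.T, x ∉ E.T → ∃ τ ∈ E.T, x = τ * D.ν := fun x hx n => by
    have l : ∀ {a b : Fˣ}, ¬ ∀ s, E.m (lo (b / a * s)) 1 ∈ 𝐂(D.R ⊔ D.fl.R) := fun {a b} k =>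
      h.symm.not_mem (s := 0) (by prt) (mem_cent1.2 (mem_cent.1 (E.L1_le (fun s => h1 (E.R_mem s)) (fun s => by
        simpa [← mul_assoc] using k (a / b * s)) (X := ng) (by simp)) _ (mem_sup_left (by simpa using D.R_mem 1))).symm)
    obtain ⟨τ, ht, rfl | rfl | rfl | rfl⟩ := E.cv (h.T_ct hx) (h.T_cu hx)
    · exact absurd ht n
    · obtain ⟨a, b, c, d, k, rfl⟩ := ht
      refine absurd (fun s => ?_) (l (a := a) (b := b))
      simpa only [cjc, w_up1, E.T_lo1 k] using conj_mem_of_norm (nm hx) (h1 (E.R_mem s))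
    · exact ⟨τ, ht, by rw [hν]⟩
    · obtain ⟨a, b, c, d, k, rfl⟩ := ht
      refine absurd (fun s => ?_) (l (a := a) (b := b))
      have := conj_mem_of_norm (nm hx) (h2 (E.R2_mem s))
      rwa [cjc, E.cjν (by prt), cjc, w_up1, E.T_lo1 k] at this
  intro x hx
  by_contra n
  obtain ⟨τ, ht, rfl⟩ := key x hx n
  have k : ∀ y ∈ D.T, y ∉ 𝐂[D.ν] → y ∉ E.T := fun y a b c => b (mem_cent1_symm ((mul_mem_cancel_left
    (mem_cent1.2 (E.T_comm' ht c))).1 (mem_cent1.2 (D.T_comm' hx a))))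
  obtain ⟨x, a, y, b, c1, c2, c3⟩ := D.exists_T hq
  obtain ⟨x, a', rfl⟩ := key x a (k x a c1)
  obtain ⟨y, b', rfl⟩ := key y b (k y b c2)
  refine k _ (mul_mem a b) c3 ?_
  simpa only [mul_assoc, ν_inv, hν] using mul_mem a' (E.ν_normT b')

theorem inv_wν (h : Pr (dg a b) (dg c d)) (e : a * d = b * c) :
    D.w * D.ν * D.m (dg a b) (dg c d) * (D.w * D.ν)⁻¹ = (D.m (dg a b) (dg c d))⁻¹ := by
  have k : Pr (dg d c) (dg b a) := by simpa [Pr, mul_comm] using h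
  rw [cjc, D.cjν h, w, D.cjm (by prt) h.symm, sw_dg, sw_dg, eq_inv_iff_mul_eq_one, D.mul k h, dg_mul, dg_mul]
  exact (D.ker (by simpa only [dg_mul] using k.mul h)).2 ⟨a * d, by rw [mul_comm d, mul_comm c, e], by rw [e]⟩

theorem Pv.isConj' {D : Dat F G} (h : Pv D E) (e : IsConj D.t D.u) : IsConj E.t E.u :=
  h.2.elim (fun k => k ▸ (h.symm.isConj e).symm) fun k => (k ▸ (h.symm.isConj e).symm).trans E.isU_tu.isConj.symm

/-- elements that separate the root groups of the other frames -/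
def Sep (h : G) : Prop := h ∈ D.T ∧ h ∈ 𝐍(D.K) ∧ ∀ (E : Dat F G) (M : Subgroup G), Pv D E →
  E.ν = D.ν → h ∈ 𝐍(M) → E.K ≤ M → E.t ∉ M → E.R ≤ M ∧ E.fl.R ≤ M

variable [Finite G]

theorem K_norm (h : Pr (dg a b) (dg c d)) (k : (a : F) / b = c / d) : D.m (dg a b) (dg c d) ∈ 𝐍(D.K) :=
  Transfer.mem_normalizer_of_conj_le (Transfer.conj_le_iff.2 fun x hx => by
    obtain ⟨s, rfl⟩ := D.mem_K.1 hx
    rw [D.T_up h, k]; exact D.K_mem _)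

theorem sep1 {i : Fˣ} (hi : i * i = -1) : D.Sep (D.m (dg i 1) (dg 1 i⁻¹)) := by
  refine ⟨D.T_mem, D.K_norm (by prt) (by simp), fun E M h hν n l nt => ?_⟩
  have f := D.tν hi
  have m := D.T_mem (a := i) (b := 1) (c := 1) (d := i⁻¹)
  generalize D.m (dg i 1) (dg 1 i⁻¹) = x at f m n
  have key : ∀ {a b c d : Fˣ} {y}, Pr (dg a b) (dg c d) → y ∈ 𝐂[E.ν] → x = E.m (dg a b) (dg c d) * y →
      (c : F) / d = -(a / b) := fun {a b c d y} k hy e => by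
    rw [e, ← hν, cjc, cent1_iff.1 hy, mul_inv_eq_iff_eq_mul, mul_assoc, E.swap k, ← mul_assoc, mul_left_inj] at f
    rcases h.2 with g | g <;> rw [g] at f
    · obtain ⟨z, f, -⟩ := E.eq (f.trans (E.mul (by prt) k.symm))
      rw [dg_mul, dg_mul, dg_inj] at f
      simp [f.1, f.2, div_neg, mul_div_mul_left]
    · obtain ⟨z, f, -⟩ := E.eq (f.trans (E.tu_eq ▸ E.mul (by prt) k.symm))
      rw [dg_mul, dg_mul, dg_inj] at f
      simp [f.1, f.2, neg_div, mul_div_mul_left]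
  have c1 : ∀ {a b c d : Fˣ} {y}, Pr (dg a b) (dg c d) → y ∈ 𝐂[E.ν] → x = E.m (dg a b) (dg c d) * y →
      (∀ s, y * E.m (up s) (up s) * y⁻¹ = E.m (up s) (up s)) → E.R ≤ M ∧ E.fl.R ≤ M := fun {a b c d y} k hy e o =>
    E.two_ratios l (r := (a : F) / b) (s := (c : F) / d) (fun f => E.two (mul_right_cancel₀ (div_ne_zero a.ne_zero b.ne_zero)
      (by linear_combination f + key k hy e))) fun s => by
        simpa only [e, cjc, o, E.T_up k] using conj_mem_of_norm n (l (E.K_mem s))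
  have c2 : ∀ {a b c d : Fˣ} {y}, Pr (dg a b) (dg c d) → y ∈ 𝐂[E.ν] → x = E.m (dg a b) (dg c d) * y →
      (∀ s, y * E.m (up s) (up s) * y⁻¹ = E.m (lo s) (lo s)) → E.R ≤ M ∧ E.fl.R ≤ M := fun {a b c d y} k hy e o =>
    absurd (E.lo_case l fun s => by
      have := conj_mem_of_norm n (l (E.K_mem (a / b * s)))
      rwa [e, cjc, o, E.T_lo k, ← inv_div (c : F), key k hy e, ← mul_assoc, ← mul_assoc, inv_neg, neg_mul, neg_mul,
        inv_mul_cancel₀ (by simp), div_mul_div_cancel₀ a.ne_zero, div_self b.ne_zero, one_mul] at this) nt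
  have cν : ∀ s, E.ν * E.m (up s) (up s) * E.ν⁻¹ = E.m (up s) (up s) := fun s => E.cjν (by prt)
  have wν : E.w ∈ 𝐂[E.ν] := mem_cent1.2 E.ν_w.symm
  obtain ⟨_, ⟨a, b, c, d, k, rfl⟩, e | e | e | e⟩ := E.cv (h.T_ct m) (h.T_cu m)
  exacts [c1 k (one_mem _) (by rw [e, mul_one]) (by simp), c2 k wν e fun s => E.w_up s s, c1 k (self_mem_cent1 _) e cν,
    c2 k (mul_mem wν (self_mem_cent1 _)) (e.trans (mul_assoc ..)) fun s => by rw [cjc, cν, w_up]]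

variable (p) [hp : Fact p.Prime] [CharP F p]
include hp

theorem sep3 (s : ¬ IsSquare (-1 : F)) (hq : a * a ≠ 1) (e : IsConj D.t D.u) :
    D.Sep (D.m (dg (a * a) (a * a)) (dg (a⁻¹ * a⁻¹) (a⁻¹ * a⁻¹))) := by
  have k0 : Pr (dg a a) (dg a⁻¹ a⁻¹) := by prt
  have f := D.mul k0 k0
  rw [dg_mul, dg_mul] at f
  have k1 : Pr (dg (a * a) (a * a)) (dg (a⁻¹ * a⁻¹) (a⁻¹ * a⁻¹)) := by prt
  refine ⟨D.T_mem k1, D.K_norm k1 (by simp), fun E M h hν n l nt => ?_⟩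
  have m := E.sq_T (h.T_ct (D.T_mem k0)) (h.T_cu (D.T_mem k0))
  have i1 : D.ν * D.m (dg (a * a) (a * a)) (dg (a⁻¹ * a⁻¹) (a⁻¹ * a⁻¹)) * D.ν⁻¹ =
      (D.m (dg (a * a) (a * a)) (dg (a⁻¹ * a⁻¹) (a⁻¹ * a⁻¹)))⁻¹ := by
    rw [D.cjν k1, D.inv k1, dg_inv, dg_inv]; simp [mul_comm]
  have i2 : D.w * D.m (dg (a * a) (a * a)) (dg (a⁻¹ * a⁻¹) (a⁻¹ * a⁻¹)) * D.w⁻¹ =
      D.m (dg (a * a) (a * a)) (dg (a⁻¹ * a⁻¹) (a⁻¹ * a⁻¹)) := by
    rw [w, D.cjm (by prt) k1, sw_dg, sw_dg]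
  have i3 : D.m (dg (a * a) (a * a)) (dg (a⁻¹ * a⁻¹) (a⁻¹ * a⁻¹)) ≠
      (D.m (dg (a * a) (a * a)) (dg (a⁻¹ * a⁻¹) (a⁻¹ * a⁻¹)))⁻¹ := fun e => by
    have k : ∀ a : Fˣ, a * a * (a * a) = 1 → a * a = 1 := fun a e => (usq.1 e).resolve_right fun e =>
      s ⟨a, by simpa using (congrArg Units.val e).symm⟩
    rw [eq_inv_iff_mul_eq_one, D.mul k1 k1, dg_mul, dg_mul, ← mul_inv, ← mul_inv] at e
    obtain ⟨z, e, e'⟩ := (D.ker (by prt)).1 e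
    exact hq (k _ (k _ (by nth_rw 1 [(dg_inj.1 e).1, ← (dg_inj.1 e').1]; simp [mul_assoc])))
  rw [f] at m
  generalize D.m (dg (a * a) (a * a)) _ = x at *
  obtain ⟨a, b, c, d, k, rfl⟩ := id m
  refine E.two_ratios l (r := (a : F) / b) (s := (c : F) / d) (fun f => i3 ?_) fun s => E.T_up k s s ▸ conj_mem_of_norm n (l (E.K_mem s))
  have j : ∀ τ ∈ E.T, ∀ {y}, y * E.m (dg a b) (dg c d) * y⁻¹ = (E.m (dg a b) (dg c d))⁻¹ → D.w = τ * y →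
      E.m (dg a b) (dg c d) = (E.m (dg a b) (dg c d))⁻¹ := fun τ ht y e e' => by
    rw [e', cjc, e, E.T_comm' ht (inv_mem m), mul_inv_cancel_right] at i2
    exact i2.symm
  have ws := E.ws3 p s h.symm (h.symm.isConj e).symm (h.isConj' e) e
  obtain ⟨τ, ht, g | g | g | g⟩ := E.cv (h.ct D.w_mem D.wu) (h.cu (h.ct D.w_mem D.wu) D.w_mem)
  exacts [absurd (g ▸ E.T_le ht) ws, absurd (g ▸ mul_mem (E.T_le ht) E.w_H) ws, j τ ht (hν ▸ i1) g,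
    j τ ht (E.inv_wν k (Units.ext (by push_cast; field_simp at f; linear_combination f))) (g.trans (mul_assoc ..))]

omit [Finite G] in
theorem exists_B (e' : IsConj D.t D.ν) : ∃ B : F → G, Function.Injective B ∧ B 0 = 1 ∧ ∃ v, (v = D.u ∨ v = D.t * D.u) ∧
    ∀ x, PE p (B x) ∧ B x ∈ 𝐂[D.ν] ∧ B x ∈ 𝐂(D.K) ∧ B x ∈ 𝐂[v] ∧ D.t * B x * D.t⁻¹ = (B x)⁻¹ ∧ B x * B 1 = B 1 * B x := by
  obtain ⟨E, e1, e2, e3, -⟩ := D.fr p e'
  have i1 : ∀ x, D.t * E.m (up x) (up (-x)) * D.t⁻¹ = (E.m (up x) (up (-x)))⁻¹ := fun x => by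
    rw [← e2, E.cjν (by prt), E.inv (by prt), ← up_neg, ← up_neg, neg_neg]
  have i2 : ∀ v ∈ E.H, v * D.m (up 1) (up 1) * v⁻¹ = (D.m (up 1) (up 1))⁻¹ → ∀ x,
      v * E.m (up x) (up (-x)) * v⁻¹ = (E.m (up x) (up (-x)))⁻¹ := by
    rintro _ ⟨A, B, k, rfl⟩ h x
    rw [← e3, mul_inv_eq_iff_eq_mul, E.inv (by prt), ← up_neg, E.mul k (by prt), E.mul (by prt) k] at h
    obtain ⟨z, h1, h2⟩ := E.eq h
    obtain rfl := (un_up 1).z_eq D.two (un_up _) h1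
    rw [dg_one, one_mul] at h1 h2
    rw [E.cjm k (by prt), inv_up h1, inv_up h2, E.inv (by prt), ← up_neg, ← up_neg]
  have i3 : D.u * D.m (up 1) (up 1) * D.u⁻¹ = (D.m (up 1) (up 1))⁻¹ := by
    rw [u, D.cjm (by prt) (by prt), dg_up, D.inv (by prt), ← up_neg]; simp [div_neg]
  have i4 : ∀ {v x : G}, D.t * x * D.t⁻¹ = x⁻¹ → v * x * v⁻¹ = x⁻¹ → x ∈ 𝐂[D.t * v] := fun a b =>
    mem_cent1_symm (cent1_iff.2 (by rw [cjc, b, ← conj_inv, a, inv_inv]))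
  obtain ⟨v, v1, v2⟩ : ∃ v, (v = D.u ∨ v = D.t * D.u) ∧ ∀ x, E.m (up x) (up (-x)) ∈ 𝐂[v] := by
    by_cases k : D.u ∈ E.H
    · exact ⟨_, .inr rfl, fun x => i4 (i1 x) (i2 _ k i3 x)⟩
    · exact ⟨_, .inl rfl, fun x => D.four.mul_mul_left ▸ i4 (i1 x) (i2 _ (E.mul_H (e2 ▸ E.ν_mem)
        (e1 ▸ mem_cent1_symm D.νu) (e2 ▸ E.ν_not) k) (by
          rw [cjc, i3, cent1_iff.1 (mem_cent1_symm (inv_mem D.m_mem))]) x)⟩
  refine ⟨fun x => E.m (up x) (up (-x)), fun x y h => ?_, by simp [one], v, v1, fun x => ⟨E.pe_un (un_up _) (un_up _),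
    e1 ▸ E.m_mem, mem_cent.2 fun y hy => ?_, v2 x, i1 x, by mm; rw [up_comm x, up_comm (-x)]⟩⟩
  · obtain ⟨z, h1, -⟩ := E.eq h
    obtain rfl := (un_up x).z_eq D.two (un_up y) (A := 1) (z := z) (by simpa using h1)
    simpa [up_inj] using h1
  obtain ⟨s, rfl⟩ := D.mem_K.1 hy
  obtain ⟨X, hX, k⟩ := E.pe_ν p (e1 ▸ D.K_ν (up s)) (e2 ▸ D.m_mem) (D.pe_un (un_up s) (un_up s))
  have := hX.dt
  obtain ⟨z, h1, -⟩ := E.comm (A := X) (B := X) (C := up 1) (E := up 1) (by rw [← k, e3]; mm; rw [up_comm])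
  obtain rfl := (un_up 1).z_eq D.two (un_up _) h1
  obtain ⟨y, rfl⟩ := hX.of_comm one_ne_zero (by simpa using h1)
  rw [k]; mm; rw [up_comm x, up_comm (-x)]

variable [Finite F]

omit [Finite G] in
theorem exists_E (e : IsConj D.t D.u) (e' : IsConj D.t D.ν) : ∃ E, Pv D E ∧ E.ν = D.ν ∧ E.K ≤ 𝐂(D.K) := by
  obtain ⟨B, b1, b2, v, hv, hB⟩ := D.exists_B p e'
  obtain ⟨g, g1, g2⟩ := D.flip p e
  obtain ⟨E, h, rfl⟩ : ∃ E, Pv D E ∧ E.t = v := by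
    rcases hv with rfl | rfl
    exacts [⟨_, (D.cj_pv g1 g2).1, g1⟩, ⟨_, (D.cj_pv g1 g2).2, by rw [cj_t, cjc, g1, nu]⟩]
  have n1 : B 1 ≠ 1 := fun k => one_ne_zero (b1 (k.trans b2.symm))
  obtain ⟨E', e1, e2, e3⟩ := E.exists_ν' (h.ct D.ν_mem D.νu) (h.cu (h.ct D.ν_mem D.νu) D.ν_mem)
    (E.p1 p ((h.symm.isConj e).symm.trans e') (fun k => D.ν_not (k ▸ D.T_le h.t_mem)) (hB 1).2.2.2.1 (hB 1).2.1 (hB 1).1 n1) D.νν
  have key : ∀ E' : Dat F G, Pv D E' → E'.t = E.t → E'.ν = D.ν → ∀ y, B 1 = E'.m (up y) (up y) → E'.K ≤ 𝐂(D.K) :=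
    fun E h e1 e2 y k => by
      have : ∀ x, ∃ y, B x = E.m (up y) (up y) := fun x => by
        obtain ⟨X, hX, l⟩ := E.pe_ν p (e1 ▸ (hB x).2.2.2.1) (e2 ▸ (hB x).2.1) (hB x).1
        have := hX.dt
        obtain ⟨z, h1, -⟩ := E.comm (l ▸ k ▸ (hB x).2.2.2.2.2)
        obtain rfl := (un_up y).z_eq D.two (un_up _) h1
        obtain ⟨y, rfl⟩ := hX.of_comm (x := y) (by rintro rfl; exact n1 (by simp [k, one])) (by simpa using h1)
        exact ⟨y, l⟩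
      choose f hf using this
      intro x hx
      obtain ⟨s, rfl⟩ := E.mem_K.1 hx
      obtain ⟨s, rfl⟩ := Finite.injective_iff_surjective.1 (fun x y k => b1 (by rw [hf, hf, k]) : f.Injective) s
      exact hf s ▸ (hB s).2.2.1
  have h' := h.of e1 e3
  obtain ⟨X, hX, l⟩ := E'.pe_ν p (e1 ▸ (hB 1).2.2.2.1) (e2 ▸ (hB 1).2.1) (hB 1).1
  have := hX.dt
  have k := (hB 1).2.2.2.2.1
  rw [l, h'.cjm, E'.inv (by prt)] at k
  obtain ⟨z, k, -⟩ := E'.eq k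
  obtain rfl := (hX.cj dl).z_eq D.two hX.inv (A := 1) (z := z) (by simpa using k)
  rcases hX.up_or_lo D.two (by rw [dl_inv] at k; rw [k]; simp) with ⟨y, rfl⟩ | ⟨y, rfl⟩
  · exact ⟨E', h', e2, key _ h' e1 e2 y l⟩
  · have h'' := h'.of (E'.bc_t sw) (.inl (by rw [u, bc_m, sw_dl, E'.ng_ng' (by prt), u]))
    exact ⟨_, h'', (E'.bc_ν sw).trans e2, key _ h'' ((E'.bc_t sw).trans e1) ((E'.bc_ν sw).trans e2) y (by rw [l, bc_m, sw_up])⟩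

omit hp [CharP F p] [Finite F] [Finite G] in
/-- two frames with the same torus and commuting root groups -/
structure Two (D E : Dat F G) : Prop where
  pv : Pv D E
  ν : E.ν = D.ν
  T : E.T = D.T
  c1 : E.R ≤ 𝐂(D.R ⊔ D.fl.R)
  c2 : E.fl.R ≤ 𝐂(D.R ⊔ D.fl.R)
  w : ∃ τ ∈ D.T, D.w = τ * E.w * D.ν
  cj : IsConj D.t D.u

theorem exists_two (hq : a * a ≠ 1) (e : IsConj D.t D.u) (e' : IsConj D.t D.ν) : ∃ E, Two D E := by
  obtain ⟨E, h, hν, hK⟩ := D.exists_E p e e'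
  have sep : ∀ D : Dat F G, IsConj D.t D.u → ∃ h, D.Sep h := fun D e => (em (IsSquare (-1 : F))).elim
    (fun s => let ⟨_, hi⟩ := exists_i s; ⟨_, D.sep1 hi⟩) fun s => ⟨_, D.sep3 p s hq e⟩
  obtain ⟨x, -, x1, x2⟩ := sep D e
  obtain ⟨y, y1, -, y2⟩ := sep E (h.isConj' e)
  have a1 := x2 E _ h hν (norm_cent le_rfl x1) hK fun k =>
    h.symm.not_mem (s := 1) (by prt) (mem_cent1.2 (mem_cent.1 k _ (D.K_mem 1)).symm)
  have a2 := y2 D 𝐂(E.R ⊔ E.fl.R) h.symm hν.symm (norm_cent (norm_sup E.T_norm E.T_norm2) y1) (cent_symm (sup_le a1.1 a1.2))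
    fun k => h.not_mem (s := 0) (by prt) (mem_cent1.2 (mem_cent.1 k _ (mem_sup_left (by simpa using E.R_mem 1))).symm)
  have a3 := sup_le_iff.1 (cent_symm (sup_le a2.1 a2.2))
  have hT := (E.T_le_T hq h.symm hν.symm a2.1 a2.2).antisymm (D.T_le_T hq h hν a3.1 a3.2)
  have ws : D.w ∉ E.H := fun k => (em (IsSquare (-1 : F))).elim (fun s =>
    let ⟨_, hi⟩ := exists_i s
    let ⟨_, a, _, _, b⟩ := E.ws1 p hi h.symm (h.symm.isConj e).symm e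
    b (mul_mem k (E.T_le (hT ▸ a)))) fun s => E.ws3 p s h.symm (h.symm.isConj e).symm (h.isConj' e) e k
  refine ⟨E, h, hν, hT, a3.1, a3.2, ?_, e⟩
  obtain ⟨τ, ht, g | g | g | g⟩ := E.cv (h.ct D.w_mem D.wu) (h.cu (h.ct D.w_mem D.wu) D.w_mem)
  exacts [absurd (g ▸ E.T_le ht) ws, absurd (g ▸ mul_mem (E.T_le ht) E.w_H) ws,
    absurd (g ▸ D.w_H) (hν ▸ D.mν_not (D.T_le (hT ▸ ht))), ⟨τ, hT ▸ ht, hν ▸ g⟩]

end Dat

end Cfsg.Lib.L4C
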