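import Cfsg.Agent.Lib.L4C.Dat

/-! Groups with an involution centralizer of type `L₄(q)`: involutions (helper16). -/

set_option autoImplicit false

namespace Cfsg.Lib.L4C

open Matrix Subgroup Cfsg.Lib.PSL2 Cfsg.Lib.GLTwo Cfsg.Lib.L3C Cfsg.Lib.BG Cfsg.Lib.Small Cfsg.Lib.GW
open Cfsg.Lib.Inv hiding conj_mem_of_mem_normalizer
open scoped Cfsg.Lib.Transfer

variable {F : Type*} [Field F] {G : Type*} [Group G] {A B C E P Q X Y : GL (Fin 2) F} {a b c d z : Fˣ} {r s : F}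
  {g x y v : G} {p : ℕ}

/-- `p`-elements -/
def PE (p : ℕ) (x : G) : Prop := ∃ k, x ^ p ^ k = 1

theorem PE.cj (h : PE p x) (g : G) : PE p (g * x * g⁻¹) := h.imp fun k e => by rw [conj_pow, e]; simp
theorem cj_cent (h : x ∈ 𝐂[y]) (g : G) : g * x * g⁻¹ ∈ 𝐂[g * y * g⁻¹] :=
  mem_cent1.2 (by rw [← cj_mul, ← cj_mul, mem_cent1.1 h])
theorem cj_cent' (h : x ∈ 𝐂[g * y * g⁻¹]) : g⁻¹ * x * g⁻¹⁻¹ ∈ 𝐂[y] := by simpa only [cji] using cj_cent h g⁻¹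
theorem cij (a x : G) : a * (a⁻¹ * x * a⁻¹⁻¹) * a⁻¹ = x := by group

theorem comm_of_comm (n : ¬ Sc A) (h : X * A = A * X) (k : Y * A = A * Y) : X * Y = Y * X := by
  obtain ⟨a, b, e⟩ := exists_eq_of_commute (mt sc_iff.2 n) (congrArg Units.val h)
  obtain ⟨c, d, f⟩ := exists_eq_of_commute (mt sc_iff.2 n) (congrArg Units.val k)
  refine Units.ext ?_
  simp only [Units.val_mul, e, f, add_mul, mul_add, smul_mul_assoc, mul_smul_comm, one_mul, mul_one, smul_add, smul_smul,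
    mul_comm]
  abel

theorem not_sc_of_sq (h2 : (2 : F) ≠ 0) (h : 𝐝 A = 1) (e : A * A = ng) : ¬ Sc A := by
  rintro ⟨a, rfl⟩
  rw [dg_mul, dg_inj] at e
  exact neg_ne h2 (e.1.symm.trans (by simpa using h))

namespace Dat
variable (D : Dat F G)

/-- the class of `u` -/
def IsU (x : G) : Prop := ∃ y ∈ D.H, y * D.u * y⁻¹ = x
/-- noncentral involutions of `SL₂ ∘ SL₂` -/
def IsJ (x : G) : Prop := ∃ A B, 𝐝 A = 1 ∧ 𝐝 B = 1 ∧ A * A = ng ∧ B * B = ng ∧ x = D.m A B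
/-- elements with a scalar block -/
def IsS (x : G) : Prop := ∃ A B, Pr A B ∧ (Sc A ∨ Sc B) ∧ x = D.m A B

theorem isU (e : A * A = 1) (n : ¬ Sc A) (e' : B * B = 1) (n' : ¬ Sc B) : D.IsU (D.m A B) := by
  have k := not_sc_dg (neg_ne D.two).symm
  obtain ⟨P, rfl⟩ := cj_of_sq (dl_dl.trans dg_one.symm) k (e.trans dg_one.symm) n
  obtain ⟨Q, rfl⟩ := cj_of_sq (dl_dl.trans dg_one.symm) k (e'.trans dg_one.symm) n'
  have h : Pr P (Q * dg (𝐝 P * 𝐝 Q)⁻¹ 1) := by simp [Pr, ← mul_assoc, mul_comm (𝐝 Q)⁻¹]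
  exact ⟨_, D.H_mem h, by rw [u, D.cjm h (by prt), cjc Q, dg_comm, mul_inv_cancel_right]⟩

theorem inv_cases (h : x ∈ D.H) (e : x * x = 1) : D.IsU x ∨ D.IsJ x ∨ D.IsS x := by
  obtain ⟨A, B, h, rfl⟩ := h
  by_cases n : Sc A ∨ Sc B
  · exact .inr (.inr ⟨A, B, h, n, rfl⟩)
  rw [not_or] at n
  obtain ⟨z, e1, e2⟩ := (D.ker (h.mul h)).1 (D.mul h h ▸ e)
  have k1 := (tr_of_sq e1 n.1).2
  have k2 := (tr_of_sq e2 n.2).2
  rcases usq.1 (show z * z = 1 by rwa [Pr, k1, k2, neg_mul_neg] at h) with rfl | rfl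
  · exact .inl (D.isU (e1.trans dg_one) n.1 (e2.trans dg_one) n.2)
  · exact .inr (.inl ⟨A, B, by simpa using k1, by simpa using k2, e1, e2, rfl⟩)

theorem isU_tu : D.IsU (D.t * D.u) := ⟨_, D.H_mem, D.nu⟩
theorem isU_w : D.IsU D.w :=
  have : ¬ Sc (sw : GL (Fin 2) F) := fun ⟨_, e⟩ => by simpa using (ent e).2.1
  D.isU sw_sw this sw_sw this
variable {D} in
theorem IsU.cj (h : D.IsU x) (hy : y ∈ D.H) : D.IsU (y * x * y⁻¹) :=
  let ⟨_, hz, e⟩ := h; ⟨_, mul_mem hy hz, by rw [cjc, e]⟩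
variable {D} in
theorem IsU.mul_t (h : D.IsU x) : D.IsU (D.t * x) := by
  obtain ⟨y, hy, rfl⟩ := h
  rw [← cent1_iff.1 (D.H_le hy), ← cj_mul]
  exact D.isU_tu.cj hy
variable {D} in
theorem IsU.isConj (h : D.IsU x) : IsConj D.u x := let ⟨y, _, e⟩ := h; isConj_iff.2 ⟨y, e⟩
variable {D} in
theorem IsJ.isU (h : D.IsJ x) {i : Fˣ} (hi : i * i = -1) : D.IsU x := by
  obtain ⟨A, B, h1, h2, e1, e2, rfl⟩ := h
  have k : ∀ {A : GL (Fin 2) F}, A * A = ng → dg i i * A * (dg i i * A) = 1 := fun e => by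
    rw [mul_assoc, sc_lc, e, ← mul_assoc, dg_mul, hi, ng_ng]
  rw [← D.sc i rfl rfl (by simp [Pr, h1, h2, hi])]
  exact D.isU (k e1) (fun s => not_sc_of_sq D.two h1 e1 s.of_mul) (k e2) fun s => not_sc_of_sq D.two h2 e2 s.of_mul
theorem ch_u (P Q : GL (Fin 2) F) (hz : z * z = 1) : D.IsU (D.ch P Q z hz).u :=
  have k := not_sc_dg (neg_ne D.two).symm
  D.isU (by rw [← cj_mul, dl_dl]; simp) (fun s => k s.cj) (by rw [← cj_mul, dl_dl]; simp) fun s => k s.cj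

/-- interchange of the blocks -/
def fl : Dat F G := D.cj D.ν
theorem fl_m (h : Pr A B := by prt) : D.fl.m A B = D.m B A := D.cjν h
@[simp] theorem fl_t : D.fl.t = D.t := cent1_iff.1 D.ν_mem
@[simp] theorem fl_u : D.fl.u = D.u := cent1_iff.1 D.νu
@[simp] theorem fl_ν : D.fl.ν = D.ν := by simp [fl]

theorem exists_ν (h : x ∈ 𝐂[D.t]) (n : x ∉ D.H) (e : x * x = 1) :
    ∃ E : Dat F G, E.t = D.t ∧ E.ν = x ∧ E.H = D.H ∧ D.IsU E.u := by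
  obtain ⟨_, ⟨A, B, k, rfl⟩, rfl⟩ := (D.H_or h).resolve_left n
  obtain ⟨z, hz, -, e⟩ := D.exists_ch k e
  exact ⟨_, D.ch_t .., e, D.ch_H .., D.ch_u ..⟩

theorem K_ν (A : GL (Fin 2) F) (h : Pr A A := by prt) : D.m A A ∈ 𝐂[D.ν] := mem_cent1.2 (D.swap h).symm
theorem up_ne (h : s ≠ 0) : D.m (up s) Y ≠ 1 ∨ ¬ Pr (up s) Y := or_iff_not_imp_right.2 fun k e =>
  let ⟨z, e, _⟩ := (D.ker (not_not.1 k)).1 e; not_sc_up h ⟨z, e⟩
theorem up_ne' (h : s ≠ 0) (k : Pr (up s) Y := by prt) : D.m (up s) Y ≠ 1 := (D.up_ne h).resolve_right (not_not.2 k)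

theorem sc_of_un (h : Pr A B) (e : D.m A B * D.m A B = 1) (hX : Un X) (hY : Un Y) (n : D.m X Y ≠ 1)
    (c : D.m A B * D.m X Y = D.m X Y * D.m A B) : Sc A ∨ Sc B := by
  obtain ⟨z, e1, e2⟩ := (D.ker (h.mul h)).1 (D.mul h h ▸ e)
  obtain ⟨w, c1, c2⟩ := D.comm c h (hX.pr hY)
  obtain rfl := hX.z_eq D.two hX c1
  rw [dg_one, one_mul] at c1 c2
  by_cases k : X = 1
  · exact .inr (sc_of_comm D.two hY (by rintro rfl; exact n (k ▸ D.one)) c2 ⟨z, e2⟩)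
  · exact .inl (sc_of_comm D.two hX k c1 ⟨z, e1⟩)

theorem eq_t (h : Pr A B) (s : Sc A) (s' : Sc B) (e : D.m A B * D.m A B = 1) : D.m A B = 1 ∨ D.m A B = D.t := by
  obtain ⟨z, e1, e2⟩ := (D.ker (h.mul h)).1 (D.mul h h ▸ e)
  obtain ⟨a, rfl⟩ := s
  obtain ⟨b, rfl⟩ := s'
  rw [dg_mul, dg_inj] at e1 e2
  rcases usq.1 (show a / b * (a / b) = 1 by rw [div_mul_div_comm, e1.1, e2.1, div_self']) with k | k <;>
    rw [div_eq_iff_eq_mul] at k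
  · exact .inl ((D.ker h).2 ⟨b, by rw [k, one_mul], rfl⟩)
  · exact .inr (D.sc b (by simp [k, dg_mul]) (by simp))

theorem eq_t' (h : 𝐝 A = 1) (k : 𝐝 B = 1) (s : Sc A ∨ Sc B) (e : D.m A B * D.m A B = 1) :
    D.m A B = 1 ∨ D.m A B = D.t := by
  obtain ⟨z, e1, e2⟩ := (D.ker (by prt)).1 (D.mul (.sl h k) (.sl h k) ▸ e)
  have key : ∀ {A B : GL (Fin 2) F}, 𝐝 A = 1 → 𝐝 B = 1 → A * A = dg z z → B * B = dg z z → Sc A → Sc B :=
    fun {A B} h k e1 e2 ⟨a, s⟩ => by_contra fun n => by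
      have := (tr_of_sq e2 n).2
      rw [s, dg_mul, dg_inj] at e1
      rw [← e1.1, k, show a * a = 1 by simpa [s] using h] at this
      exact neg_ne D.two this.symm
  exact D.eq_t (.sl h k) (s.elim id (key k h e2 e1)) (s.elim (key h k e1 e2) id) e

variable [hp : Fact p.Prime] [CharP F p]

include D in
omit hp in
theorem p_ne : p ≠ 2 := by rintro rfl; exact D.two (by exact_mod_cast CharP.cast_eq_zero F 2)

omit hp in
theorem pe_un (hX : Un X) (hY : Un Y) : PE p (D.m X Y) :=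
  ⟨1, by rw [pow_one, D.pow (hX.pr hY), hX.pow, hY.pow, one]⟩

/-- The `p`-elements of the centralizer. -/
theorem pe (hx : x ∈ 𝐂[D.t]) (e : PE p x) : ∃ X Y, Un X ∧ Un Y ∧ x = D.m X Y := by
  obtain ⟨k, e⟩ := e
  have o : Odd (p ^ k) := (hp.out.odd_of_ne_two D.p_ne).pow
  obtain ⟨A, B, h, rfl⟩ := D.odd_H hx o e
  obtain ⟨z, e1, e2⟩ := (D.ker (h.pow _)).1 (D.pow h _ ▸ e)
  have z4 : z ^ 4 = 1 := by
    have := h.pow (p ^ k)
    rw [e1, e2, Pr, dt_dg] at this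
    rw [← this]; simp [pow_succ, mul_assoc]
  obtain ⟨j, hj⟩ := o
  have k1 : ∀ {A : GL (Fin 2) F}, A ^ p ^ k = dg z z → Un (A ^ (p ^ k * (3 * p ^ k) + 1)) := fun e => unip (p := p) (k := k) (by
    rw [← pow_mul, mul_comm, pow_mul, e, dg_pow, show p ^ k * (3 * p ^ k) + 1 = 4 * (3 * j * j + 3 * j + 1) by
      rw [hj]; ring, pow_mul, z4, one_pow, dg_one])
  exact ⟨_, _, k1 e1, k1 e2, by rw [← D.pow h, pow_succ, pow_mul, e, one_pow, one_mul]⟩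

variable (p)
include hp

theorem f1' (h : Pr (dg a a) B) (e : g * D.t * g⁻¹ = D.m (dg a a) B) : g * D.t * g⁻¹ = D.t := by
  have c : ∀ X, Un X → ∃ Y Z, Un Y ∧ Un Z ∧ g⁻¹ * D.m X 1 * g⁻¹⁻¹ = D.m Y Z := fun X hX =>
    have := hX.pr un_one
    D.pe (p := p) (cj_cent' (e ▸ mem_cent1.2 (by mm; rw [sc_comm]))) ((D.pe_un hX un_one).cj _)
  obtain ⟨X, X', x1, x2, ex⟩ := c _ (un_up 1)
  obtain ⟨Y, Y', y1, y2, ey⟩ := c _ (un_lo (-1))
  have a1 := x1.dt; have a2 := x2.dt; have a3 := y1.dt; have a4 := y2.dt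
  have k : g⁻¹ * D.t * g⁻¹⁻¹ = D.m (X * Y * X * (X * Y * X)) (X' * Y' * X' * (X' * Y' * X')) := by
    rw [← D.nn, n, ← up_lo_up1, ← mul_one (1 : GL (Fin 2) F), ← mul_one (1 * 1 : GL (Fin 2) F),
      ← D.mul (by prt) (by prt), ← D.mul (by prt) (by prt)]
    simp only [cj_mul, ex, ey]
    mm
  have k2 : g⁻¹ * D.t * g⁻¹⁻¹ * (g⁻¹ * D.t * g⁻¹⁻¹) = 1 := by rw [← cj_mul, tt]; simp
  have k3 := mem_cent1.1 (cj_cent (mem_cent1_symm (D.m_mem (A := up 1) (B := 1))) g⁻¹)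
  rw [k, ex] at k3
  rw [k] at k2
  rcases D.eq_t' (by simp [*]) (by simp [*]) (D.sc_of_un (by prt) k2 x1 x2 (ex ▸ conj_ne_one (D.up_ne' one_ne_zero)) k3)
    k2 with f | f <;> rw [← k] at f
  · exact absurd f (conj_ne_one D.t_ne)
  · conv_lhs => rw [← f, cij]

theorem f1 (h : D.IsS x) (e : IsConj D.t x) : x = D.t := by
  obtain ⟨g, rfl⟩ := isConj_iff.1 e
  obtain ⟨A, B, h, ⟨a, rfl⟩ | ⟨a, rfl⟩, e⟩ := h
  · exact D.f1' p h e
  · simpa using D.fl.f1' p h.symm (g := g) (by rw [fl_t, e, D.fl_m])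

/-- A conjugate of `t` that centralizes a `p`-element of `C(t)` interchanges the blocks. -/
theorem p1 (e : IsConj D.t x) (n : x ≠ D.t) (hy : y ∈ 𝐂[D.t]) (c : y ∈ 𝐂[x]) (k : PE p y) (n' : y ≠ 1) :
    x ∉ D.H := by
  rintro ⟨A, B, h, rfl⟩
  obtain ⟨X, Y, hX, hY, rfl⟩ := D.pe hy k
  obtain ⟨g, f⟩ := isConj_iff.1 e
  exact n (D.f1 p ⟨A, B, h, D.sc_of_un h (by rw [← f, ← cj_mul, tt]; simp) hX hY n' (mem_cent1.1 c).symm, rfl⟩ e)

omit hp in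
theorem sq_root (hn : ¬ IsSquare (-1 : F)) (h : D.IsJ v) (c : x ∈ 𝐂[v]) (c' : y ∈ 𝐂[v]) (e : x * x = D.t)
    (e' : y * y = D.t) : x * y = y * x := by
  obtain ⟨A, B, h1, h2, e1, e2, rfl⟩ := h
  have key : ∀ x ∈ 𝐂[D.m A B], x * x = D.t → ∃ C E, Pr C E ∧ C * A = A * C ∧ E * B = B * E ∧ x = D.m C E := fun x c e => by
    obtain ⟨C, E, h, rfl | rfl⟩ := D.cases (x := x) (mem_cent1.2 (by rw [← e, mul_assoc]))
    · obtain ⟨z, f1, f2⟩ := D.comm (mem_cent1.1 c)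
      mm at e
      obtain ⟨w, f3, f4⟩ := D.eq e
      obtain rfl : z = 1 := by
        by_cases s : Sc C
        · obtain ⟨a, rfl⟩ := s; exact sc_eq_one (f1.trans (by rw [sc_comm]))
        by_cases s' : Sc E
        · obtain ⟨a, rfl⟩ := s'; exact sc_eq_one (f2.trans (by rw [sc_comm]))
        rw [Pr, (tr_of_sq (f3.trans (dg_mul ..)) s).2, (tr_of_sq (f4.trans (mul_one _)) s').2] at h
        exact absurd ⟨w, by have := congrArg Units.val h; simp at this; linear_combination this⟩ hn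
      exact ⟨C, E, h, by simpa using f1, by simpa using f2, rfl⟩
    · mm at e
      obtain ⟨w, f3, f4⟩ := D.eq e
      have : C * E = dg w w := by rw [← sc_cj w C, ← mul_one (dg w w), ← f4]; group
      rw [this, left_eq_mul] at f3
      exact absurd (dg_inj.1 (f3.trans dg_one.symm)).1 (neg_ne D.two)
  obtain ⟨C, E, h, a1, a2, rfl⟩ := key x c e
  obtain ⟨C', E', h', b1, b2, rfl⟩ := key y c' e'
  rw [D.mul h h', D.mul h' h, comm_of_comm (not_sc_of_sq D.two h1 e1) a1 b1, comm_of_comm (not_sc_of_sq D.two h2 e2) a2 b2]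

omit hp in
theorem sq_det (hy : y ∈ 𝐂[D.t]) : ∃ A B c, Pr A B ∧ 𝐝 A = c * c ∧ y * y = D.m A B := by
  obtain ⟨C, E, h, rfl | rfl⟩ := D.cases hy
  · exact ⟨_, _, _, h.mul h, map_mul .., D.mul h h⟩
  · exact ⟨C * E, E * C, 1, by prt, by simpa [Pr] using h, by mm⟩

omit hp in
theorem not_isU (hn : ¬ IsSquare (-1 : F)) (h : Pr A B) (e : 𝐝 A = c * c) : ¬ D.IsU (D.m A B) := by
  rintro ⟨_, ⟨P, Q, k, rfl⟩, f⟩
  rw [u, D.cjm k (by prt)] at f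
  obtain ⟨z, f, -⟩ := D.eq f (Pr.cj (by prt) ..)
  have := congrArg (fun A => (𝐝 A : F)) f
  simp [e] at this
  exact hn ⟨z * c, by linear_combination this⟩

omit hp in
theorem IsJ.ne {D : Dat F G} (h : D.IsJ x) : x ≠ D.t := by
  obtain ⟨A, B, h1, h2, e1, e2, rfl⟩ := h
  intro e
  obtain ⟨z, -, f⟩ := D.eq e
  exact not_sc_of_sq D.two h2 e2 ⟨z, f.trans (mul_one _)⟩

theorem f2' (hn : ¬ IsSquare (-1 : F)) : g * D.t * g⁻¹ ≠ D.m jj jj := fun e => by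
  have hJ : D.IsJ (D.m jj jj) := ⟨_, _, dt_jj, dt_jj, jj_jj, jj_jj, rfl⟩
  obtain ⟨A, B, c, h, k, f⟩ := D.sq_det (y := g⁻¹ * D.n * g⁻¹⁻¹) (cj_cent' (e ▸ mem_cent1.2 (by mm)))
  rw [← cj_mul, nn] at f
  have hv : D.IsJ (g⁻¹ * D.t * g⁻¹⁻¹) := by
    rcases D.inv_cases (f ▸ D.H_mem) (by rw [← cj_mul, tt]; simp) with k' | k' | k'
    · exact absurd (f ▸ k') (D.not_isU hn h k)
    · exact k'
    · refine absurd ?_ hJ.ne
      conv_lhs => rw [← e, ← D.f1 p k' (isConj_iff.2 ⟨_, rfl⟩), cij]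
  have key : ∀ x ∈ 𝐂[D.t], x * x = D.m jj jj → g⁻¹ * x * g⁻¹⁻¹ * (g⁻¹ * x * g⁻¹⁻¹) = D.t := fun x _ k => by
    rw [← cj_mul, k, ← e, cji]
  obtain ⟨W, w1, w2⟩ : ∃ W : GL (Fin 2) F, W * jj = jj * W ∧ ¬ Sc (W * W) :=
    ⟨gl2 1 1 (-1) 1 (by rw [show (1 : F) * 1 - 1 * -1 = 2 by ring]; exact D.two), by apply gl_ext <;> simp,
      fun ⟨_, e⟩ => D.two (by simpa [one_add_one_eq_two] using (ent e).2.1)⟩
  have m1 : D.n * D.ν ∈ 𝐂[D.t] := mul_mem D.m_mem D.ν_mem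
  have m2 : D.m W (W⁻¹ * jj) * D.ν ∈ 𝐂[D.t] := mul_mem D.m_mem D.ν_mem
  have := D.sq_root hn hv (cj_cent m1 _) (cj_cent m2 _) (key _ m1 (by mm)) (key _ m2 (by mm; rw [← w1]; simp))
  rw [← cj_mul, ← cj_mul, mul_left_inj, mul_right_inj] at this
  mm at this
  obtain ⟨z, f, -⟩ := D.eq this
  refine w2 ⟨z⁻¹ * -1, ?_⟩
  rw [← dg_mul, ← dg_inv, eq_inv_mul_iff_mul_eq, ← mul_assoc, ← f, mul_assoc, mul_assoc, ← w1, inv_mul_cancel_left, jj_jj]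

/-- For `q ≡ 3 (mod 4)` the involution `t` is weakly closed in `SL₂ ∘ SL₂`. -/
theorem f2 (hn : ¬ IsSquare (-1 : F)) (h : D.IsJ x) : ¬ IsConj D.t x := fun e => by
  obtain ⟨A, B, h1, h2, e1, e2, rfl⟩ := h
  obtain ⟨P, rfl⟩ := cj_of_sq jj_jj not_sc_jj e1 (not_sc_of_sq D.two h1 e1)
  obtain ⟨Q, rfl⟩ := cj_of_sq jj_jj not_sc_jj e2 (not_sc_of_sq D.two h2 e2)
  obtain ⟨g, e⟩ := isConj_iff.1 e
  exact (D.ch P Q 1 (mul_one 1)).f2' p hn (g := g) (by rw [ch_t, e, ch_m])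

theorem cls (h : x ∈ D.H) (e : IsConj D.t x) : x = D.t ∨ D.IsU x := by
  obtain ⟨g, f⟩ := isConj_iff.1 e
  rcases D.inv_cases h (by rw [← f, ← cj_mul, tt]; simp) with k | k | k
  · exact .inr k
  · by_cases s : IsSquare (-1 : F)
    · obtain ⟨i, s⟩ := s
      exact .inr (k.isU (i := .mk0 i (by rintro rfl; simp at s)) (Units.ext s.symm))
    · exact absurd e (D.f2 p s k)
  · exact .inl (D.f1 p k e)

theorem flip (e : IsConj D.t D.u) : ∃ g, g * D.t * g⁻¹ = D.u ∧ g * D.u * g⁻¹ = D.t := by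
  obtain ⟨g, f⟩ := isConj_iff.1 e
  have c : g⁻¹ * D.t * g⁻¹⁻¹ ∈ 𝐂[D.t] := cj_cent' (f ▸ D.T_cu D.t_mem)
  have n : g⁻¹ * D.t * g⁻¹⁻¹ ≠ D.t := fun k => D.four.ne (by conv_rhs => rw [← f, ← k, cij])
  by_cases h : g⁻¹ * D.t * g⁻¹⁻¹ ∈ D.H
  · obtain ⟨y, hy, k⟩ := (D.cls p h (isConj_iff.2 ⟨_, rfl⟩)).resolve_left n
    exact ⟨g * y, by rw [cjc, cent1_iff.1 (D.H_le hy), f], by rw [cjc, k, cij]⟩
  obtain ⟨E, e1, e2, -⟩ := D.exists_ν c h (by rw [← cj_mul, tt]; simp)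
  refine absurd (D.T_le D.u_mem) (D.p1 p e D.four.ne.symm (y := g * E.m (up 1) (up 1) * g⁻¹) ?_ ?_
    ((E.pe_un (un_up 1) (un_up 1)).cj g) (conj_ne_one (E.up_ne' one_ne_zero)))
  · simpa only [e2, cij] using cj_cent (E.K_ν (up 1)) g
  · simpa only [e1, f] using cj_cent (E.m_mem (A := up 1) (B := up 1)) g

end Dat

end Cfsg.Lib.L4C
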