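import Cfsg.Agent.Lib.L3C.Root
import Cfsg.Agent.Lib.Linear.Simple

/-! Matrix computations in `GL₂(F)` for the characterization of `L₄(q)` (helper16). -/

set_option autoImplicit false

namespace Cfsg.Lib.L4C

open Matrix Subgroup Cfsg.Lib.PSL2 Cfsg.Lib.GLTwo Cfsg.Lib.L3C
open scoped MatrixGroups

variable {F : Type*} [Field F] {A B C E P Q X Y : GL (Fin 2) F} {a b c d z : Fˣ} {x y : F}

/-- the determinant -/
scoped notation "𝐝" => Matrix.GeneralLinearGroup.det (n := Fin 2)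
/-- the Weyl element of `SL₂` -/
def jj : GL (Fin 2) F := gl2 0 1 (-1) 0 (by simp)
/-- `diag(1, -1)` -/
abbrev dl : GL (Fin 2) F := dg 1 (-1)
/-- `-1` -/
abbrev ng : GL (Fin 2) F := dg (-1) (-1)
/-- scalar matrices -/
def Sc (A : GL (Fin 2) F) : Prop := ∃ a, A = dg a a
/-- pairs with determinant product one -/
def Pr (A B : GL (Fin 2) F) : Prop := 𝐝 A * 𝐝 B = 1
/-- unipotent matrices -/
def Un (X : GL (Fin 2) F) : Prop := X 0 0 + X 1 1 = 2 ∧ X 0 0 * X 1 1 - X 0 1 * X 1 0 = 1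

@[simp] theorem jj_coe : ((jj : GL (Fin 2) F) : Matrix (Fin 2) (Fin 2) F) = !![0, 1; -1, 0] := rfl
theorem dt_val (A : GL (Fin 2) F) : (𝐝 A : F) = A 0 0 * A 1 1 - A 0 1 * A 1 0 := det_eq A
@[simp] theorem dt_dg (a d : Fˣ) : 𝐝 (dg a d) = a * d := Units.ext (by simp)
@[simp] theorem dt_up (x : F) : 𝐝 (up x) = 1 := Units.ext (by simp)
@[simp] theorem dt_lo (x : F) : 𝐝 (lo x) = 1 := Units.ext (by simp)
@[simp] theorem dt_sw : 𝐝 (sw : GL (Fin 2) F) = -1 := Units.ext (by simp)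
@[simp] theorem dt_jj : 𝐝 (jj : GL (Fin 2) F) = 1 := Units.ext (by simp)

theorem ent (h : A = B) : A 0 0 = B 0 0 ∧ A 0 1 = B 0 1 ∧ A 1 0 = B 1 0 ∧ A 1 1 = B 1 1 := by simp [h]

/-- entries of products -/
scoped macro "ents" loc:(Lean.Parser.Tactic.location)? : tactic =>
  `(tactic| simp only [gl_mul_apply, dg_inv, ← up_neg, ← lo_neg, sw_inv, dg_coe, up_coe, lo_coe, sw_coe, jj_coe,
    Units.val_one, Units.val_neg, Units.val_mul, Units.val_inv_eq_inv_val, Units.val_mk0, inv_one, inv_neg,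
    Matrix.of_apply, Matrix.cons_val', Matrix.cons_val_zero, Matrix.cons_val_one, Matrix.cons_val_fin_one,
    Matrix.one_apply_eq, Matrix.one_apply_ne (show (0 : Fin 2) ≠ 1 by decide),
    Matrix.one_apply_ne (show (1 : Fin 2) ≠ 0 by decide),
    mul_zero, zero_mul, mul_one, one_mul, add_zero, zero_add, neg_zero] $[$loc]?)

theorem sc_comm (z : Fˣ) (A : GL (Fin 2) F) : A * dg z z = dg z z * A := dg_scal z A
theorem sc_lc (z : Fˣ) (A B : GL (Fin 2) F) : A * (dg z z * B) = dg z z * (A * B) := by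
  rw [← mul_assoc, sc_comm, mul_assoc]
theorem sc_cj (z : Fˣ) (A : GL (Fin 2) F) : A * dg z z * A⁻¹ = dg z z := by
  rw [sc_comm, mul_inv_cancel_right]
theorem sc_eq_one (h : A = dg z z * A) : z = 1 :=
  (dg_inj.1 ((right_eq_mul.1 h).trans dg_one.symm)).1
theorem ng_ng : (ng : GL (Fin 2) F) * ng = 1 := by rw [dg_mul]; simp
theorem dl_dl : (dl : GL (Fin 2) F) * dl = 1 := by rw [dg_mul]; simp
theorem dl_inv : (dl : GL (Fin 2) F)⁻¹ = dl := inv_eq_of_mul_eq_one_right dl_dl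
theorem ng_inv : (ng : GL (Fin 2) F)⁻¹ = ng := inv_eq_of_mul_eq_one_right ng_ng
theorem jj_jj : (jj : GL (Fin 2) F) * jj = ng := by apply gl_ext <;> simp
theorem jj_inv : (jj : GL (Fin 2) F)⁻¹ = ng * jj :=
  inv_eq_of_mul_eq_one_right (by rw [sc_lc, jj_jj, ng_ng])
theorem jj_eq : (jj : GL (Fin 2) F) = dl * sw := by apply gl_ext <;> simp
theorem jj_up (x : F) : jj * up x * jj⁻¹ = lo (-x) := by rw [jj_inv]; apply gl_ext <;> simp
theorem jj_lo (x : F) : jj * lo x * jj⁻¹ = up (-x) := by rw [jj_inv]; apply gl_ext <;> simp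
theorem jj_dg (a d : Fˣ) : jj * dg a d * jj⁻¹ = dg d a := by rw [jj_inv]; apply gl_ext <;> simp
theorem up_lo_up1 : up (1 : F) * lo (-1) * up 1 = jj := by apply gl_ext <;> simp
theorem sw_dg' (a d : Fˣ) : sw * dg a d = dg d a * sw := by rw [← sw_dg a d, inv_mul_cancel_right]
theorem dgsw_sq (a d : Fˣ) : dg a d * sw * (dg a d * sw) = dg (a * d) (a * d) := by
  apply gl_ext <;> simp [mul_comm]
theorem up_comm (x y : F) : up x * up y = up y * up x := by rw [← up_add, add_comm, up_add]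
theorem up_cj (x y : F) : up x * up y * (up x)⁻¹ = up y := by rw [up_comm, mul_inv_cancel_right]
theorem lo_inj : lo x = lo y ↔ x = y := ⟨fun h => by simpa using (ent h).2.2.1, fun h => by rw [h]⟩

theorem sc_iff : Sc A ↔ Scal (A : Matrix (Fin 2) (Fin 2) F) :=
  ⟨fun ⟨a, e⟩ => by simp [e, Scal], scal_exists⟩
theorem Sc.cj (h : Sc (P * A * P⁻¹)) : Sc A :=
  let ⟨a, e⟩ := h; ⟨a, by rw [← sc_cj a P⁻¹, ← e]; group⟩
theorem Sc.of_mul (h : Sc (dg z z * A)) : Sc A :=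
  let ⟨a, e⟩ := h; ⟨z⁻¹ * a, by rw [← dg_mul, ← e, ← dg_inv, inv_mul_cancel_left]⟩
theorem not_sc_jj : ¬ Sc (jj : GL (Fin 2) F) := fun ⟨_, e⟩ => by simpa using (ent e).2.1
theorem not_sc_up (h : x ≠ 0) : ¬ Sc (up x) := fun ⟨_, e⟩ => h (by simpa using (ent e).2.1)
theorem neg_ne (h2 : (2 : F) ≠ 0) : (-1 : Fˣ) ≠ 1 := fun e => h2 (by
  have := congrArg Units.val e; simp at this; linear_combination -this)
theorem not_sc_dg (h : a ≠ d) : ¬ Sc (dg a d) := fun ⟨_, e⟩ => h ((dg_inj.1 e).1.trans (dg_inj.1 e).2.symm)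

namespace Pr
theorem mul (h : Pr A B) (k : Pr C E) : Pr (A * C) (B * E) := by
  unfold Pr at *; rw [map_mul, map_mul, mul_mul_mul_comm, h, k, one_mul]
theorem inv (h : Pr A B) : Pr A⁻¹ B⁻¹ := by unfold Pr at *; rw [map_inv, map_inv, ← mul_inv, h, inv_one]
theorem symm (h : Pr A B) : Pr B A := by unfold Pr at *; rwa [mul_comm]
theorem one : Pr (1 : GL (Fin 2) F) 1 := by simp [Pr]
theorem sl (h : 𝐝 A = 1) (k : 𝐝 B = 1) : Pr A B := by simp [Pr, h, k]
theorem cj (h : Pr A B) (P Q : GL (Fin 2) F) : Pr (P * A * P⁻¹) (Q * B * Q⁻¹) := by simpa [Pr] using h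
theorem pow (h : Pr A B) (n : ℕ) : Pr (A ^ n) (B ^ n) := by
  unfold Pr at *; rw [map_pow, map_pow, ← mul_pow, h, one_pow]
theorem self (A : GL (Fin 2) F) : Pr A A⁻¹ := by simp [Pr]
end Pr

theorem Un.dt (h : Un X) : 𝐝 X = 1 := Units.ext (by rw [dt_val, h.2, Units.val_one])
theorem Un.pr (h : Un X) (k : Un Y) : Pr X Y := .sl h.dt k.dt
theorem un_up (x : F) : Un (up x) := by simp [Un, one_add_one_eq_two]
theorem un_lo (x : F) : Un (lo x) := by simp [Un, one_add_one_eq_two]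
theorem un_one : Un (1 : GL (Fin 2) F) := up_zero (F := F) ▸ un_up 0
theorem Un.cj (h : Un X) (P : GL (Fin 2) F) : Un (P * X * P⁻¹) := by
  have e : IsConj X (P * X * P⁻¹) := isConj_iff.2 ⟨P, rfl⟩
  exact ⟨by rw [← trace_eq, ← trace_of_isConj e, trace_eq, h.1], by rw [← det_eq, ← det_of_isConj e, det_eq, h.2]⟩
theorem Un.eq_one (h : Un X) (s : Sc X) : X = 1 := by
  obtain ⟨a, rfl⟩ := s
  obtain ⟨h1, h2⟩ := h
  ents at h1 h2
  rw [show a = 1 from Units.ext (sub_eq_zero.1 (pow_eq_zero_iff two_ne_zero |>.1 (by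
    simp only [Units.val_one]; linear_combination h2 - h1))), dg_one]
theorem Un.exists (h : Un X) (n : X ≠ 1) : ∃ P, P * up 1 * P⁻¹ = X :=
  isConj_iff.1 (isConj_of_trace_det (mt sc_iff.2 (not_sc_up one_ne_zero)) (mt sc_iff.2 (mt h.eq_one n))
    (by rw [trace_eq, trace_eq, h.1, (un_up 1).1]) (by rw [det_eq, det_eq, h.2, (un_up 1).2]))
theorem Un.pow {p : ℕ} [CharP F p] (h : Un X) : X ^ p = 1 := by
  by_cases n : X = 1
  · simp [n]
  obtain ⟨P, rfl⟩ := h.exists n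
  simp [up_pow]
theorem Un.inv (h : Un X) : Un X⁻¹ := by
  by_cases n : X = 1
  · simpa [n] using un_one
  obtain ⟨P, rfl⟩ := h.exists n
  simpa [← up_neg, mul_assoc] using (un_up (-1)).cj P
theorem Un.z_eq (h2 : (2 : F) ≠ 0) (h : Un X) (k : Un Y) (e : A * X = dg z z * (Y * A)) : z = 1 := by
  have h1 := (h.cj A).1
  rw [e, ← mul_assoc, mul_inv_cancel_right] at h1
  ents at h1
  exact Units.ext (mul_left_cancel₀ h2 (by simp only [Units.val_one]; linear_combination h1 - z * k.1))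
theorem Un.eq_up (h : Un X) (h0 : X 1 0 = 0) : X = up (X 0 1) := by
  obtain ⟨a, b⟩ := h
  have : X 0 0 = 1 := sub_eq_zero.1 (pow_eq_zero_iff two_ne_zero |>.1 (by
    linear_combination X 0 0 * a - b - X 0 1 * h0))
  apply gl_ext <;> simp [this, h0]
  linear_combination a - this
theorem Un.eq_lo (h : Un X) (h0 : X 0 1 = 0) : X = lo (X 1 0) := by
  obtain ⟨a, b⟩ := h
  have : X 0 0 = 1 := sub_eq_zero.1 (pow_eq_zero_iff two_ne_zero |>.1 (by
    linear_combination X 0 0 * a - b - X 1 0 * h0))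
  apply gl_ext <;> simp [this, h0]
  linear_combination a - this
theorem Un.of_comm (h : Un X) (hx : x ≠ 0) (e : X * up x = up x * X) : ∃ y, X = up y :=
  ⟨_, h.eq_up (norm_up hx e)⟩

/-- A unipotent matrix inverted by `diag(1, -1)` is triangular. -/
theorem Un.up_or_lo (h2 : (2 : F) ≠ 0) (h : Un X) (e : dl * X * dl * X = 1) : (∃ x, X = up x) ∨ ∃ x, X = lo x := by
  obtain ⟨e2, -, -, e3⟩ := ent e
  ents at e2 e3
  have : X 0 1 * X 1 0 = 0 := mul_left_cancel₀ (pow_ne_zero 2 h2) (by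
    linear_combination (-1) * e2 - e3 - 2 * h.2 + (X 0 0 + X 1 1 + 2) * h.1)
  exact (mul_eq_zero.1 this).symm.imp (fun z => ⟨_, h.eq_up z⟩) fun z => ⟨_, h.eq_lo z⟩

theorem sc_of_comm (h2 : (2 : F) ≠ 0) (h : Un X) (n : X ≠ 1) (e : A * X = X * A) (s : Sc (A * A)) : Sc A := by
  obtain ⟨P, rfl⟩ := h.exists n
  obtain ⟨a, y, k⟩ := comm_up one_ne_zero (g := P⁻¹ * A * P⁻¹⁻¹) (by
    rw [← mul_left_cancel_iff (a := P), ← mul_right_cancel_iff (a := P⁻¹)]; simpa [mul_assoc] using e)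
  obtain ⟨b, s⟩ : Sc (P⁻¹ * A * P⁻¹⁻¹ * (P⁻¹ * A * P⁻¹⁻¹)) := Sc.cj (P := P) (by simpa [mul_assoc] using s)
  have := (ent s).2.1
  rw [k] at this
  ents at this
  obtain rfl : y = 0 := mul_left_cancel₀ (mul_ne_zero h2 (mul_ne_zero a.ne_zero a.ne_zero)) (by linear_combination this)
  exact Sc.cj (P := P⁻¹) ⟨a, by rw [k, up_zero, mul_one]⟩

theorem tr_of_sq (e : A * A = dg z z) (n : ¬ Sc A) : A 0 0 + A 1 1 = 0 ∧ 𝐝 A = -z := by
  obtain ⟨k0, k3, k1, k2⟩ := ent e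
  ents at k0 k1 k2 k3
  have tr : A 0 0 + A 1 1 = 0 := by_contra fun e => by
    have b0 : A 0 1 = 0 := mul_left_cancel₀ e (by linear_combination k3)
    have c0 : A 1 0 = 0 := mul_left_cancel₀ e (by linear_combination k1)
    exact n (sc_iff.2 ⟨b0, c0, mul_left_cancel₀ e (by rw [b0] at k0 k2; linear_combination k0 - k2)⟩)
  exact ⟨tr, Units.ext (by rw [dt_val, Units.val_neg]; linear_combination A 0 0 * tr - k0)⟩

theorem cj_of_sq (e : A * A = dg z z) (n : ¬ Sc A) (e' : B * B = dg z z) (n' : ¬ Sc B) : ∃ P, P * A * P⁻¹ = B :=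
  isConj_iff.1 (isConj_of_trace_det (mt sc_iff.2 n) (mt sc_iff.2 n')
    (by rw [trace_eq, trace_eq, (tr_of_sq e n).1, (tr_of_sq e' n').1])
    (by rw [det_eq, det_eq, ← dt_val, ← dt_val, (tr_of_sq e n).2, (tr_of_sq e' n').2]))

theorem sq_of_comm (e : A * B = dg z z * (B * A)) : z * z = 1 := by
  simpa [mul_comm (𝐝 A)] using (congrArg 𝐝 e).symm

/-- Matrices normalizing `diag(1, -1)` up to a scalar are monomial. -/
theorem mono (h2 : (2 : F) ≠ 0) (e : A * dl = dg z z * (dl * A)) :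
    (z = 1 ∧ ∃ a d, A = dg a d) ∨ z = -1 ∧ ∃ a d, A = dg a d * sw := by
  rcases usq.1 (sq_of_comm e) with rfl | rfl
  · exact .inl ⟨rfl, comm_dg (neg_ne h2).symm (by simpa using e)⟩
  obtain ⟨k0, -, -, k2⟩ := ent e
  ents at k0 k2
  exact .inr ⟨rfl, exists_anti (mul_left_cancel₀ h2 (by linear_combination k0))
    (mul_left_cancel₀ h2 (by linear_combination -k2))⟩

theorem mem_of_up_lo {N : Subgroup (GL (Fin 2) F)} (hu : ∀ x, up x ∈ N) (hl : ∀ x, lo x ∈ N) (h : 𝐝 X = 1) :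
    X ∈ N := by
  have w : ∀ s : Fˣ, dg s (-s⁻¹) * sw ∈ N := fun s => up_lo_up s ▸ mul_mem (mul_mem (hu _) (hl _)) (hu _)
  have k : ∀ s : Fˣ, dg s s⁻¹ ∈ N := fun s => by
    have := mul_mem (w s) (inv_mem (w 1))
    rwa [_root_.mul_inv_rev, mul_assoc, mul_inv_cancel_left, dg_inv, dg_mul, inv_one, mul_one, inv_neg, inv_one,
      neg_mul_neg, mul_one] at this
  by_cases e : X 1 0 = 0
  · obtain ⟨a, d, x, rfl⟩ := exists_bor e
    obtain rfl : d = a⁻¹ := eq_inv_of_mul_eq_one_right (by simpa using h)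
    exact mul_mem (k a) (hu x)
  · obtain ⟨a, d, e⟩ := exists_anti (g := up (-(X 0 0 / X 1 0)) * X * up (-(X 1 1 / X 1 0)))
      (by simp [gl_mul_apply, e]) (by simp [gl_mul_apply]; field_simp; ring)
    obtain rfl : d = -a⁻¹ := by
      have := congrArg 𝐝 e
      simp [h] at this
      rw [← neg_eq_iff_eq_neg]
      exact eq_inv_of_mul_eq_one_right (by rw [mul_neg, this])
    exact (mul_mem_cancel_left (hu _)).1 ((mul_mem_cancel_right (hu _)).1 (e ▸ w a))

theorem sq_of_tr (d : 𝐝 X = 1) (h : X 0 0 + X 1 1 = 0) : X * X = ng := by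
  have := (dt_val X).symm.trans (congrArg Units.val d)
  apply gl_ext <;> ents <;> simp only [Units.val_one] at this
  exacts [by linear_combination X 0 0 * h - this, by linear_combination X 0 1 * h, by linear_combination X 1 0 * h,
    by linear_combination X 1 1 * h - this]

theorem tr_three (h2 : (2 : F) ≠ 0) (h : ∀ x : F, x ≠ 0 → x ^ 2 = 1) {a b c d : F} (e : a * d - b * c = 1)
    (t : a + d ≠ 0) (n : ¬ (b = 0 ∧ c = 0 ∧ a = d)) : a * a + b * b + (c * c + d * d) = 0 := by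
  have h3 : (3 : F) = 0 := by linear_combination h 2 h2
  by_cases ha : a = 0
  · have hb := h b (by rintro rfl; simp [ha] at e)
    have hc := h c (by rintro rfl; simp [ha] at e)
    linear_combination hb + hc + h d (by simpa [ha] using t) + a * ha + h3
  by_cases hd : d = 0
  · have hb := h b (by rintro rfl; simp [hd] at e)
    have hc := h c (by rintro rfl; simp [hd] at e)
    linear_combination hb + hc + h a ha + d * hd + h3
  have k : a * d = 1 := mul_left_cancel₀ h2 (by linear_combination h _ t - h a ha - h d hd - h3)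
  have k' : a = d := by linear_combination (-a) * h d hd + d * k
  by_cases hb : b = 0
  · linear_combination h a ha + h d hd + h c (fun hc => n ⟨hb, hc, k'⟩) + b * hb + h3
  have hc : c = 0 := mul_left_cancel₀ hb (by linear_combination k - e)
  linear_combination h a ha + h d hd + h b hb + c * hc + h3

/-- A subgroup normalized by `SL₂` and containing a nonscalar element of `SL₂` contains `-1`. -/
theorem ng_mem (h2 : (2 : F) ≠ 0) {N : Subgroup (GL (Fin 2) F)}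
    (hN : ∀ A, 𝐝 A = 1 → ∀ X ∈ N, A * X * A⁻¹ ∈ N) (hX : X ∈ N) (d : 𝐝 X = 1) (n : ¬ Sc X) : ng ∈ N := by
  by_cases h3 : ∀ x : F, x ≠ 0 → x ^ 2 = 1
  · by_cases t : X 0 0 + X 1 1 = 0
    · exact sq_of_tr d t ▸ mul_mem hX hX
    have e := (dt_val X).symm.trans (congrArg Units.val d)
    have m := mul_mem hX (hN jj dt_jj _ (inv_mem hX))
    refine sq_of_tr (X := X * (jj * X⁻¹ * jj⁻¹)) (by simp) ?_ ▸ mul_mem m m
    rw [inv_eq_of_mul_eq_one_right (show X * gl2 (X 1 1) (-X 0 1) (-X 1 0) (X 0 0) (by simp [mul_comm (X 1 1), e]) = 1 by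
      apply gl_ext <;> simp [gl_mul_apply, -Units.val_mul] at e ⊢ <;> first | ring1 | linear_combination e), jj_inv]
    simpa [gl_mul_apply, -Units.val_mul] using tr_three h2 h3 e t (mt sc_iff.2 n)
  push Not at h3
  have ex : ∀ {A : GL (Fin 2) F}, 𝐝 A = 1 → ∃ s : SL(2, F), SpecialLinearGroup.toGL s = A := fun {A} h =>
    ⟨⟨A, by simpa using congrArg Units.val h⟩, Units.ext rfl⟩
  have dd : ∀ s : SL(2, F), 𝐝 (SpecialLinearGroup.toGL s) = 1 := fun s => Units.ext s.2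
  have : (N.comap (SpecialLinearGroup.toGL (n := Fin 2) (R := F))).Normal :=
    ⟨fun x hx g => by simpa using hN _ (dd g) _ hx⟩
  obtain ⟨s, rfl⟩ := ex d
  obtain ⟨r, e⟩ := ex (A := ng) (by simp)
  refine e ▸ ((Linear.normal_SL_le_center_or_eq_top (.inr h3) (N.comap SpecialLinearGroup.toGL)).resolve_left
    fun c => n (sc_iff.2 ?_)).ge (mem_top r)
  obtain ⟨u, -, k⟩ := Matrix.SpecialLinearGroup.mem_center_iff.1 (c hX)
  change Scal (s : Matrix (Fin 2) (Fin 2) F)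
  simp [← k, Scal]

theorem exists_chi [Finite F] (h2 : (2 : F) ≠ 0) : ∃ k : ℕ, (∀ a : Fˣ, a ^ k = 1 ∨ a ^ k = -1) ∧
    (∀ a : Fˣ, a ^ k = 1 ↔ ∃ c, a = c * c) ∧ ∃ a : Fˣ, a ^ k = -1 := by
  have := Fintype.ofFinite F
  have h : ringChar F ≠ 2 := fun e => h2 (by
    have := ringChar.charP F; rw [e] at this; exact_mod_cast CharP.cast_eq_zero F 2)
  have k : ∀ a : Fˣ, a ^ (Fintype.card F / 2) = 1 ∨ a ^ (Fintype.card F / 2) = -1 := fun a => by
    simpa [Units.ext_iff] using FiniteField.pow_dichotomy h a.ne_zero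
  obtain ⟨a, ha⟩ := FiniteField.exists_nonsquare h
  have a0 : a ≠ 0 := by rintro rfl; simp at ha
  exact ⟨_, k, fun a => (FiniteField.unit_isSquare_iff h a).symm, .mk0 a a0, (k _).resolve_left fun e =>
    ha ((FiniteField.isSquare_iff h a0).2 (by simpa [Units.ext_iff] using e))⟩

theorem sq_mul [Finite F] (h2 : (2 : F) ≠ 0) (ha : ¬ ∃ c, a = c * c) (hb : ¬ ∃ c, b = c * c) : ∃ c, a * b = c * c := by
  obtain ⟨k, h, e, -⟩ := exists_chi h2
  rw [← e] at ha hb ⊢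
  rw [mul_pow, (h a).resolve_left ha, (h b).resolve_left hb]; simp

theorem exists_i (h : IsSquare (-1 : F)) : ∃ i : Fˣ, i * i = -1 :=
  let ⟨i, s⟩ := h; ⟨.mk0 i (by rintro rfl; simp at s), Units.ext s.symm⟩

/-- a quaternion pair -/
theorem exists_ii [Finite F] : ∃ I : GL (Fin 2) F, 𝐝 I = 1 ∧ I * I = ng ∧ jj * I * jj⁻¹ = I⁻¹ ∧
    ∀ A : GL (Fin 2) F, (2 : F) ≠ 0 → A * jj = jj * A → A * I = I * A → Sc A := by
  obtain ⟨p, hp⟩ := CharP.exists F
  have : NeZero p := ⟨CharP.char_ne_zero_of_finite F p⟩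
  obtain ⟨a, b, e⟩ := CharP.sq_add_sq F p (-1)
  push_cast at e
  have k : gl2 (a : F) b b (-a) (by rw [show (a : F) * -a - b * b = 1 by linear_combination -e]; simp) *
      gl2 (a : F) b b (-a) (by rw [show (a : F) * -a - b * b = 1 by linear_combination -e]; simp) = ng := by
    apply gl_ext <;> simp <;> first | ring1 | linear_combination e
  refine ⟨_, Units.ext (by simp [det_fin_two]; linear_combination -e), k, ?_, fun A h2 h1 h3 => sc_iff.2 ?_⟩
  · rw [inv_eq_of_mul_eq_one_right ((sc_lc _ _ _).trans ((congrArg _ k).trans ng_ng)), jj_inv]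
    apply gl_ext <;> simp
  obtain ⟨k0, k1, -, -⟩ := ent h1
  obtain ⟨l0, l1, -, -⟩ := ent h3
  simp [gl_mul_apply, -Units.val_mul] at k0 k1 l0 l1
  have : A 0 1 = 0 := mul_left_cancel₀ h2 (by
    linear_combination -b * l0 + a * l1 + b * b * k0 - a * b * k1 + 2 * A 0 1 * e)
  exact ⟨this, by rw [← k0, this, neg_zero], k1⟩

end Cfsg.Lib.L4C
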