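import Cfsg.Agent.Lib.L4C.Gro
import Cfsg.Agent.Lib.L3C.Hex

/-! Groups with an involution centralizer of type `L₄(q)`: root groups (helper16). -/

set_option autoImplicit false

namespace Cfsg.Lib.L4C

open Matrix Subgroup Cfsg.Lib.PSL2 Cfsg.Lib.GLTwo Cfsg.Lib.L3C Cfsg.Lib.BG Cfsg.Lib.Small Cfsg.Lib.GW
open Cfsg.Lib.Inv hiding conj_mem_of_mem_normalizer
open scoped Cfsg.Lib.Transfer

variable {F : Type*} [Field F] {G : Type*} [Group G] {A B C P Q : GL (Fin 2) F} {a b c d z : Fˣ} {r s : F}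
  {g x y v v' v'' : G} {p : ℕ} {M N S X Y Z : Subgroup G}

theorem nm' {A B C : Subgroup G} {x y a : G} (hAC : A ⊓ C = ⊥) (hBC : B ≤ C) (hx : x ∈ 𝐂(A))
    (hxB : ∀ b ∈ B, x * b * x⁻¹ * b⁻¹ ∈ A) (hyA : y * a * y⁻¹ * a⁻¹ ∈ B) (hc : A ≤ 𝐂(B)) (ha : a ∈ A)
    (hn : x * y * x * a * (x * y * x)⁻¹ ∈ C) : x * y * x * a * (x * y * x)⁻¹ ∈ B := by
  have h1 : x * a * x⁻¹ = a := by rw [← mem_cent.1 hx a ha, mul_inv_cancel_right]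
  have h2 := hxB _ hyA
  rw [cjc, cjc, h1, ← inv_mul_cancel_right (y * a * y⁻¹) a] at hn ⊢
  generalize y * a * y⁻¹ * a⁻¹ = b at *
  rw [cj_mul, h1, ← inv_mul_cancel_right (x * b * x⁻¹) b, mul_assoc, ← le_cent_iff.1 hc a ha b hyA, ← mul_assoc] at hn ⊢
  rwa [mem_bot.1 (hAC ▸ ⟨mul_mem h2 ha, (mul_mem_cancel_right (hBC hyA)).1 hn⟩ :
    x * b * x⁻¹ * b⁻¹ * a ∈ (⊥ : Subgroup G)), one_mul]

theorem cent_cj (h : X ≤ 𝐂(Y)) (g : G) : g ⋆ X ≤ 𝐂(g ⋆ Y) := Transfer.conj_centralizer g Y ▸ Transfer.conj_mono g h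

namespace Dat
variable (D : Dat F G) {E : Dat F G}

/-- the four-group -/
abbrev V : Subgroup G := D.four.four
/-- the normalizer of the torus -/
def NN : Subgroup G := 𝐍(D.T) ⊓ 𝐍(D.V)
/-- root groups -/
def Rt (v : G) (X : Subgroup G) : Prop := ∃ E : Dat F G, E.T = D.T ∧ E.V = D.V ∧ E.t = v ∧ E.R = X

theorem Pv.V {D : Dat F G} (h : Pv D E) : E.V = D.V :=
  have : E.t ∈ D.V := h.1.elim (fun e => e ▸ D.four.right_mem) fun e => e ▸ mul_mem D.four.left_mem D.four.right_mem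
  (four_eq D.four E.four this (h.2.elim (fun e => e ▸ D.four.left_mem) fun e =>
    (mul_mem_cancel_left this).1 (e ▸ D.four.left_mem))).symm
theorem cj_V (g : G) : (D.cj g).V = g ⋆ D.V := D.four.four_conj g
theorem mem_wR : x ∈ D.w ⋆ D.R ↔ ∃ s, D.m (lo s) 1 = x :=
  ⟨fun ⟨_, h, e⟩ => let ⟨s, k⟩ := D.mem_R.1 h; ⟨s, by rw [← e, ← k]; exact (D.w_up1 s).symm⟩,
    fun ⟨s, e⟩ => e ▸ D.w_up1 s ▸ Transfer.conj_mem_conj.2 (D.R_mem s)⟩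
theorem lo_mem (s : F) : D.m (lo s) 1 ∈ D.w ⋆ D.R := D.mem_wR.2 ⟨s, rfl⟩
theorem n_up (s : F) : D.n * D.m (up s) 1 * D.n⁻¹ = D.m (lo (-s)) 1 := by rw [n, D.cjm (by prt) (by prt), jj_up]; simp
theorem n_lo (s : F) : D.n * D.m (lo s) 1 * D.n⁻¹ = D.m (up (-s)) 1 := by rw [n, D.cjm (by prt) (by prt), jj_lo]; simp
theorem n_R : D.n ⋆ D.R = D.w ⋆ D.R := le_antisymm
  (Transfer.conj_le_iff.2 fun _ h => let ⟨s, k⟩ := D.mem_R.1 h; k ▸ D.n_up s ▸ D.lo_mem _)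
  fun _ h => let ⟨s, k⟩ := D.mem_wR.1 h; k ▸ neg_neg s ▸ D.n_up (-s) ▸ Transfer.conj_mem_conj.2 (D.R_mem _)
theorem fl_R : D.fl.R = D.ν ⋆ D.R := D.cj_R _
@[simp] theorem fl_w : D.fl.w = D.w := D.fl_m
theorem lo_mem2 (s : F) : D.m 1 (lo s) ∈ D.w ⋆ (D.ν ⋆ D.R) := by simpa only [fl_R, fl_w, D.fl_m (A := lo s) (B := 1)] using D.fl.lo_mem s
theorem n_R2 : D.n ∈ 𝐂(D.fl.R) := mem_cent.2 fun x h => by obtain ⟨s, rfl⟩ := D.mem_R2.1 h; mm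
theorem R_inf : D.R ⊓ D.fl.R = ⊥ := (eq_bot_iff_forall _).2 fun x h => by
  obtain ⟨s, rfl⟩ := D.mem_R.1 h.1
  obtain ⟨r, e⟩ := D.mem_R2.1 h.2
  obtain ⟨z, e, -⟩ := D.eq e.symm
  rw [(un_up s).eq_one ⟨z, by simpa using e⟩, one]
theorem wn : D.w * D.n = D.n * (D.t * D.w) := by
  mm; congr 1; apply gl_ext <;> simp
theorem νn : D.ν * D.n = D.n * (D.t * D.u * (D.w * D.ν)) := by
  mm; congr 2 <;> apply gl_ext <;> simp
theorem ww' : D.w ⋆ (D.w ⋆ X) = X := by rw [Transfer.conj_conj, D.ww, Transfer.conj_one]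
theorem νν'' : D.ν ⋆ (D.ν ⋆ X) = X := by rw [Transfer.conj_conj, D.νν, Transfer.conj_one]
theorem νw' : D.ν ⋆ (D.w ⋆ X) = D.w ⋆ (D.ν ⋆ X) := by rw [Transfer.conj_conj, D.ν_w, Transfer.conj_conj]
theorem Pv.n {D : Dat F G} (h : Pv D E) : D.n * E.t * D.n⁻¹ = D.t * E.t :=
  h.1.elim (fun e => e ▸ D.nu) fun e => by rw [e, cj_mul, nt, nu]
theorem R_inv (hv : v ∈ D.V) (h1 : v ≠ 1) (h2 : v ≠ D.t) (hx : x ∈ D.R) : v * x * v⁻¹ = x⁻¹ := by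
  obtain ⟨s, rfl⟩ := D.mem_R.1 hx
  have : D.u * D.m (up s) 1 * D.u⁻¹ = (D.m (up s) 1)⁻¹ := by
    rw [u, D.cjm (by prt) (by prt), dg_up, D.inv (by prt), ← up_neg]; simp [div_neg]
  rcases D.four.mem_four.1 hv with rfl | rfl | rfl | rfl
  exacts [absurd rfl h1, absurd rfl h2, this, by rw [cjc, this, cent1_iff.1 (mem_cent1_symm (inv_mem D.m_mem))]]
theorem R_tr (hT : D.T ≤ 𝐍(M)) (h : D.R ⊓ M ≠ ⊥) : D.R ≤ M := fun x hx => by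
  obtain ⟨y, hy, n⟩ := exists_ne_one h
  obtain ⟨s, rfl⟩ := D.mem_R.1 hy.1
  obtain ⟨r, rfl⟩ := D.mem_R.1 hx
  obtain rfl | ⟨r, rfl⟩ := eq_zero_or_unit r
  · simp [one]
  obtain rfl | ⟨s, rfl⟩ := eq_zero_or_unit s
  · simp [one] at n
  have := conj_mem_of_norm (hT (D.T_mem (a := r) (b := s) (c := (r * s)⁻¹) (d := 1))) hy.2
  rwa [D.T_up1 (by prt), div_mul_cancel₀ _ s.ne_zero] at this
theorem R_pg [CharP F p] : IsPGroup p D.R := fun x => by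
  obtain ⟨s, e⟩ := D.mem_R.1 x.2
  exact (D.pe_un (p := p) (un_up s) un_one).imp fun k h => Subtype.ext (by rw [coe_pow, ← e, h]; rfl)
theorem R_ne : D.R ≠ ⊥ := fun e => D.up_ne' (Y := 1) one_ne_zero (by prt) (mem_bot.1 (e ▸ D.R_mem 1))
theorem rt_R : D.Rt D.t D.R := ⟨D, rfl, rfl, rfl, rfl⟩

variable [Finite G]

theorem mem_NN (h : ∀ x ∈ D.T, g * x * g⁻¹ ∈ D.T) (h1 : g * D.t * g⁻¹ ∈ D.V) (h2 : g * D.u * g⁻¹ ∈ D.V) : g ∈ D.NN :=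
  ⟨Transfer.mem_normalizer_of_conj_le (Transfer.conj_le_iff.2 h), norm_four D.four h1 h2⟩
theorem w_NN : D.w ∈ D.NN := D.mem_NN (fun _ => D.w_norm) (by rw [cent1_iff.1 D.w_mem]; exact D.four.left_mem)
  (by rw [cent1_iff.1 D.wu]; exact D.four.right_mem)
theorem ν_NN : D.ν ∈ D.NN := D.mem_NN (fun _ => D.ν_normT) (by rw [cent1_iff.1 D.ν_mem]; exact D.four.left_mem)
  (by rw [cent1_iff.1 D.νu]; exact D.four.right_mem)
theorem n_NN : D.n ∈ D.NN := D.mem_NN (fun _ => D.n_norm) (by rw [nt]; exact D.four.left_mem)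
  (by rw [nu]; exact mul_mem D.four.left_mem D.four.right_mem)

namespace Rt
variable {D} (h : D.Rt v X)
include h

omit [Finite G] in
theorem cj (hg : g ∈ D.NN) : D.Rt (g * v * g⁻¹) (g ⋆ X) := by
  obtain ⟨E, e1, e2, rfl, rfl⟩ := h
  exact ⟨E.cj g, by rw [cj_T, e1, conj_eq_of_norm hg.1], by rw [cj_V, e2, conj_eq_of_norm hg.2], rfl, E.cj_R g⟩
omit [Finite G] in
theorem cj' (hg : g ∈ D.NN) (e : g ∈ 𝐂[v]) : D.Rt v (g ⋆ X) := cent1_iff.1 e ▸ h.cj hg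
omit [Finite G] in
theorem le : X ≤ 𝐂[v] := by obtain ⟨E, -, -, rfl, rfl⟩ := h; exact E.R_le.trans E.H_le
omit [Finite G] in
theorem norm : D.T ≤ 𝐍(X) := by obtain ⟨E, e, -, -, rfl⟩ := h; exact e ▸ E.T_norm
omit [Finite G] in
theorem fix (hg : g ∈ D.T) : g ⋆ X = X := conj_eq_of_norm (h.norm hg)
omit [Finite G] in
theorem tr (hT : D.T ≤ 𝐍(M)) (k : X ⊓ M ≠ ⊥) : X ≤ M := by obtain ⟨E, e, -, -, rfl⟩ := h; exact E.R_tr (e ▸ hT) k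
omit [Finite G] in
theorem ne : X ≠ ⊥ := by obtain ⟨E, -, -, -, rfl⟩ := h; exact E.R_ne
omit [Finite G] in
theorem mem : v ∈ D.V ∧ v ≠ 1 := by obtain ⟨E, -, e, rfl, -⟩ := h; exact ⟨e ▸ E.four.left_mem, E.t_ne⟩
omit [Finite G] in
theorem of (e1 : D.T = E.T) (e2 : D.V = E.V) : E.Rt v X :=
  let ⟨K, a, b, c⟩ := h; ⟨K, a.trans e1, b.trans e2, c⟩
omit [Finite G] in
theorem eq (k : D.Rt v' Y) (n : X ⊓ Y ≠ ⊥) : X = Y := (h.tr k.norm n).antisymm (k.tr h.norm (inf_comm X Y ▸ n))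
theorem wn : D.w ⋆ (D.n ⋆ X) = D.n ⋆ (D.w ⋆ X) := by
  rw [Transfer.conj_conj, D.wn, ← Transfer.conj_conj, ← Transfer.conj_conj, (h.cj D.w_NN).fix D.t_mem]
theorem νn : D.ν ⋆ (D.n ⋆ X) = D.n ⋆ (D.w ⋆ (D.ν ⋆ X)) := by
  rw [Transfer.conj_conj, D.νn, ← Transfer.conj_conj, ← Transfer.conj_conj, ← Transfer.conj_conj D.w,
    ((h.cj D.ν_NN).cj D.w_NN).fix (mul_mem D.t_mem D.u_mem)]
omit [Finite G] in
theorem nn : D.n ⋆ (D.n ⋆ X) = X := by rw [Transfer.conj_conj, D.nn, h.fix D.t_mem]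
variable (p) [hp : Fact p.Prime] [CharP F p]
omit [Finite G] hp in
theorem pg : IsPGroup p X := by obtain ⟨E, -, -, -, rfl⟩ := h; exact E.R_pg
include hp in
theorem inf (k : D.Rt v' Y) (n : v' ≠ v) : X ⊓ 𝐂[v'] = ⊥ := by
  refine cent_bot_of_inverts (odd_pgroup D.p_ne (h.pg p)) fun x hx => ?_
  obtain ⟨E, -, e, rfl, rfl⟩ := h
  exact E.R_inv (e ▸ k.mem.1) k.mem.2 n hx
end Rt

variable (p) [hp : Fact p.Prime] [CharP F p]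
include hp

theorem comm_R (hX : D.Rt v X) (hY : D.Rt v' Y) (n : D.t ≠ v) (n' : D.t ≠ v') (cX : X ≤ 𝐂(D.R)) (cY : Y ≤ 𝐂(D.R))
    (hx : x ∈ X) (hy : y ∈ Y) : x * y * x⁻¹ * y⁻¹ ∈ D.R := by
  have ht : D.t ∈ 𝐂(D.R) := le_cent1_iff.1 (D.R_le.trans D.H_le)
  have hT : D.T ≤ 𝐍(Od 𝐂(D.R)) := norm_pcore (norm_cent D.T_norm) _
  have key : ∀ {v X}, D.Rt v X → D.t ≠ v → X ≤ 𝐂(D.R) → ∃ P, Syl p P (Od 𝐂(D.R)) ∧ X ≤ P ∧ D.V ≤ 𝐍(P) := fun {v X} h n c =>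
    Syl.exists_inv_ge (D.V_le.trans hT) (cop_four D.four (odd_Od _)) (.inr (Od_sol _)) (h.pg p) (fun x hx => by
      obtain ⟨k, hk, e⟩ := zs D.t2 ht (fun g hg e => by_contra fun n => by
        have c := mem_cent.1 (mul_mem (mul_mem hg ht) (inv_mem hg)) _ (D.R_mem 1)
        obtain ⟨_, ⟨A, B, k, rfl⟩, f⟩ := (D.H_or e).resolve_left (D.p1 p (isConj_iff.2 ⟨g, rfl⟩) n D.m_mem (mem_cent1.2 c)
          (D.pe_un (un_up 1) un_one) (D.up_ne' one_ne_zero))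
        rw [f] at c
        mm at c
        obtain ⟨z, c, -⟩ := D.eq ((mul_left_inj _).1 c)
        exact not_sc_up one_ne_zero ⟨z, by simpa using c⟩) (c hx)
      refine mem_of_odd_of_sq_mem (odd_orderOf_of_mem (odd_pgroup D.p_ne (h.pg p)) hx) ?_
      have := inv_mem (mul_mem (conj_mem_of_norm (hT D.t_mem) hk) (inv_mem hk))
      rwa [show D.t * k * D.t⁻¹ * k⁻¹ = D.t * x * D.t⁻¹ * x⁻¹ by
          rw [← mul_inv_cancel_left k x, cj_mul D.t k, cent1_iff.1 (mem_cent1_symm e)]; group,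
        inverts_of_cent_bot D.tt (h.norm D.t_mem) (h.inf p D.rt_R n) x hx, ← _root_.mul_inv_rev, inv_inv] at this)
      (D.V_le.trans h.norm)
  obtain ⟨P, p1, p2, p3⟩ := key hX n cX
  obtain ⟨Q, q1, q2, q3⟩ := key hY n' cY
  obtain ⟨c, ⟨c1, c2⟩, rfl⟩ := q1.inv_trans p1 (D.V_le.trans hT) (cop_four D.four (odd_Od _)) (.inr (Od_sol _)) q3 p3
  rw [SetLike.mem_coe, cent_four] at c2
  have q4 := hY.fix (D.odd_T c2.1 c2.2 (odd_of_mem_Od c1) (pow_orderOf_eq_one c)) ▸ Transfer.conj_mono c q2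
  generalize c ⋆ Q = P at *
  have l : P ⊓ 𝐂[D.t] ≤ D.R := fun x hx => by
    obtain ⟨A, B, hA, hB, rfl⟩ := D.pe hx.2 (pow_of_pgroup p1.pgroup hx.1)
    have := hA.pr hB
    obtain ⟨s, rfl⟩ := hA.of_comm one_ne_zero (D.comm1 (mem_cent.1 (Od_le _ (p1.le hx.1)) _ (D.R_mem 1)).symm)
    rw [hB.eq_one (D.sc_of_norm (fun A a => (Od_nml _).norm (mem_cent.2 fun x hx => by
      obtain ⟨s, rfl⟩ := D.mem_R.1 hx; mm)) (fun k => absurd (D.t2 ▸ odd_of_mem_Od k) (by decide)) this (p1.le hx.1))]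
    exact D.R_mem s
  exact l ⟨P.mul_mem (mul_mem (mul_mem (p2 hx) (q4 hy)) (inv_mem (p2 hx))) (inv_mem (q4 hy)), comm_mem_of_inv D.tt
    (p3 D.four.left_mem) (odd_pgroup D.p_ne p1.pgroup) (l.trans (cent_symm (p1.le.trans (Od_le _)))) (p2 hx) (q4 hy)
    (inverts_of_cent_bot D.tt (hX.norm D.t_mem) (hX.inf p D.rt_R n) x hx)
    (inverts_of_cent_bot D.tt (hY.norm D.t_mem) (hY.inf p D.rt_R n') y hy)⟩

/-- Root groups centralizing a third root group have their commutators in it. -/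
theorem Rt.comm {D : Dat F G} (hZ : D.Rt v'' Z) (hX : D.Rt v X) (hY : D.Rt v' Y) (n : v'' ≠ v) (n' : v'' ≠ v')
    (cX : X ≤ 𝐂(Z)) (cY : Y ≤ 𝐂(Z)) : ∀ x ∈ X, ∀ y ∈ Y, x * y * x⁻¹ * y⁻¹ ∈ Z := by
  obtain ⟨E, e1, e2, rfl, rfl⟩ := hZ
  exact fun x hx y hy => E.comm_R p (hX.of e1.symm e2.symm) (hY.of e1.symm e2.symm) n n' cX cY hx hy

theorem rt_cls (hq : a * a ≠ 1) (h : D.Rt D.t X) : X = D.R ∨ X = D.w ⋆ D.R ∨ X = D.ν ⋆ D.R ∨ X = D.w ⋆ (D.ν ⋆ D.R) := by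
  obtain ⟨x, hx, n⟩ := exists_ne_one h.ne
  obtain ⟨A, B, hA, hB, rfl⟩ := D.pe (h.le hx) (pow_of_pgroup (h.pg p) hx)
  have := hA.pr hB
  have k : D.u * D.m A B * D.u⁻¹ = (D.m A B)⁻¹ := by
    obtain ⟨E, -, e, e', rfl⟩ := h
    exact E.R_inv (e ▸ D.four.right_mem) D.four.ne_one' (e' ▸ D.four.ne.symm) hx
  rw [u, D.cjm (by prt) this, D.inv this, dl_inv] at k
  obtain ⟨z, k1, k2⟩ := D.eq k
  obtain rfl := (hA.cj dl).z_eq D.two hA.inv (A := 1) (z := z) (by simpa [dl_inv] using k1)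
  have key : ∀ {v x Z}, D.Rt v Z → x ∈ X → x ∈ Z → x ≠ 1 → X = Z := fun k a b c => h.eq k fun e => c (mem_bot.1 (e ▸ ⟨a, b⟩))
  by_cases k : B = 1
  · subst k
    rcases hA.up_or_lo D.two (by rw [k1]; simp) with ⟨s, rfl⟩ | ⟨s, rfl⟩
    exacts [.inl (key D.rt_R hx (D.R_mem s) n), .inr (.inl (key (D.rt_R.cj D.w_NN) hx (D.lo_mem s) n))]
  have m := mul_mem (conj_mem_of_norm (h.norm (D.T_mem (a := 1) (b := 1) (c := a) (d := a⁻¹))) hx) (inv_mem hx)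
  rw [dg_one, D.cjm (by prt) this, D.inv this, D.mul (by prt) (by prt), one_mul, inv_one, mul_one, mul_inv_cancel] at m
  have a1 : (a : F) * a - 1 ≠ 0 := fun e => hq (Units.ext (sub_eq_zero.1 e))
  have n' : ∀ {B}, Un B → B ≠ 1 → D.m 1 B ≠ 1 := fun hB n e =>
    let ⟨z, _, e⟩ := (D.ker (un_one.pr hB)).1 e; n (hB.eq_one ⟨z, e⟩)
  rcases hB.up_or_lo D.two (by rw [k2]; simp) with ⟨s, rfl⟩ | ⟨s, rfl⟩
  · rw [dg_up, ← up_neg, ← up_add] at m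
    refine .inr (.inr (.inl (key (D.rt_R.cj D.ν_NN) m (D.fl_R ▸ D.R2_mem _) (n' (un_up _) fun e => k ?_))))
    have := up_inj.1 (e.trans up_zero.symm)
    rw [show s = 0 from mul_left_cancel₀ a1 (by simp at this; linear_combination this), up_zero]
  · rw [dg_lo, ← lo_neg, ← lo_add] at m
    refine .inr (.inr (.inr (key ((D.rt_R.cj D.ν_NN).cj D.w_NN) m (D.lo_mem2 _) (n' (un_lo _) fun e => k ?_))))
    have := lo_inj.1 (e.trans lo_zero.symm)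
    rw [show s = 0 from mul_left_cancel₀ a1 (by simp at this; field_simp at this; linear_combination -this), lo_zero]

namespace Two
variable {D} (h : Two D E)
include h

omit hp [CharP F p] [Finite G] in
theorem rA : D.Rt E.t E.R := ⟨E, h.T, h.pv.V, rfl, rfl⟩
omit hp [CharP F p] in
theorem r32 : D.Rt E.t (D.ν ⋆ E.R) := h.rA.cj' D.ν_NN (h.pv.ct D.ν_mem D.νu)
omit hp [CharP F p] in
theorem r41 : D.Rt E.t (D.w ⋆ (D.ν ⋆ E.R)) := h.r32.cj' D.w_NN (h.pv.ct D.w_mem D.wu)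
omit hp [CharP F p] in
theorem r24 : D.Rt (D.t * E.t) (D.n ⋆ E.R) := h.pv.n ▸ h.rA.cj D.n_NN
omit hp [CharP F p] in
theorem r42 : D.Rt (D.t * E.t) (D.n ⋆ (D.w ⋆ (D.ν ⋆ E.R))) := h.pv.n ▸ h.r41.cj D.n_NN
omit hp [CharP F p] h in
theorem r21 : D.Rt D.t (D.w ⋆ D.R) := D.rt_R.cj' D.w_NN D.w_mem
omit hp [CharP F p] in
theorem Ew (k : D.Rt v X) : E.w ⋆ X = D.w ⋆ (D.ν ⋆ X) := by
  obtain ⟨τ, a, e⟩ := h.w
  rw [show E.w = τ⁻¹ * (D.w * D.ν) by rw [e, mul_assoc, mul_assoc, D.νν]; simp, ← Transfer.conj_conj,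
    ← Transfer.conj_conj, ((k.cj D.ν_NN).cj D.w_NN).fix (inv_mem a)]
omit hp [CharP F p] [Finite G] in
theorem ne : D.t ≠ E.t ∧ D.t ≠ D.t * E.t ∧ E.t ≠ D.t * E.t :=
  ⟨h.pv.ne.symm, fun e => E.t_ne (left_eq_mul.1 e), fun e => D.t_ne (right_eq_mul.1 e)⟩
omit hp [CharP F p] [Finite G] in
theorem c12_14 : E.R ≤ 𝐂(D.R) := h.c1.trans (cent_anti le_sup_left)
omit hp [CharP F p] [Finite G] in
theorem c12_32 : D.ν ⋆ E.R ≤ 𝐂(D.R) := h.ν ▸ E.fl_R ▸ h.c2.trans (cent_anti le_sup_left)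
omit hp [CharP F p] [Finite G] in
theorem c21_41 : D.w ⋆ (D.ν ⋆ E.R) ≤ 𝐂(D.w ⋆ D.R) := cent_cj h.c12_32 _
omit hp [CharP F p] [Finite G] in
theorem c21_24 : D.n ⋆ E.R ≤ 𝐂(D.w ⋆ D.R) := D.n_R ▸ cent_cj h.c12_14 _
omit hp [CharP F p] [Finite G] in
theorem c12_42 : D.n ⋆ (D.w ⋆ (D.ν ⋆ E.R)) ≤ 𝐂(D.R) := by
  simpa only [← D.n_R, D.rt_R.nn] using cent_cj h.c21_41 D.n

theorem c42 (hq : a * a ≠ 1) : D.n ⋆ (D.w ⋆ (D.ν ⋆ E.R)) ≤ 𝐂(D.w ⋆ (D.ν ⋆ E.R) ⊔ D.ν ⋆ E.R) := by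
  have nE : E.n ∈ D.NN := by simpa only [NN, h.T, h.pv.V] using E.n_NN
  have r := D.rt_R.cj nE
  have c : E.n ⋆ D.R ≤ 𝐂(D.w ⋆ (D.ν ⋆ E.R) ⊔ D.ν ⋆ E.R) := by
    have := cent_cj (cent_symm (sup_le h.c12_14 h.c12_32)) E.n
    rwa [Transfer.conj_sup, E.n_R, h.Ew h.rA, ← h.ν, ← E.fl_R, conj_eq_of_cent E.n_R2, E.fl_R, h.ν] at this
  have c' := cent_cj c D.w
  rw [Transfer.conj_sup, D.ww', sup_comm] at c'
  have fake : ¬ D.n ⋆ E.R ≤ 𝐂(D.w ⋆ (D.ν ⋆ E.R) ⊔ D.ν ⋆ E.R) := fun c => by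
    have c := c.trans (cent_anti le_sup_right)
    obtain ⟨a, ha, n⟩ := exists_ne_one h.r32.ne
    have e : D.m (up 1) 1 * D.m (lo (-1)) 1 * D.m (up 1) 1 = D.n := by mm; rw [← mul_assoc, up_lo_up1]
    have := nm' (h.r32.inf p h.r24 h.ne.2.2.symm) h.r24.le (cent_symm h.c12_32 (D.R_mem 1))
      (h.r32.comm p D.rt_R h.r24 h.ne.1.symm h.ne.2.2 (cent_symm h.c12_32) c _ (D.R_mem 1))
      (h.r24.comm p r21 h.r32 h.ne.2.1.symm h.ne.2.2.symm (cent_symm h.c21_24) (cent_symm c) _ (D.lo_mem (-1)) _ ha)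
      (cent_symm c) ha (by rw [e, ← h.pv.n]; exact cj_cent (h.r32.le ha) _)
    rw [e, Transfer.conj_mem_conj] at this
    exact n (mem_bot.1 (E.R_inf ▸ ⟨this, E.fl_R ▸ h.ν ▸ ha⟩))
  have r' := r.cj D.n_NN
  rw [h.pv.symm.n, cj_mul, h.pv.n, nt, mul_assoc, mem_cent1.1 (h.pv.symm.T_ct E.t_mem), ← mul_assoc, tt, one_mul] at r'
  rw [← r.nn] at c c'
  rcases E.rt_cls p hq (r'.of h.T.symm h.pv.V.symm) with e | e | e | e <;> rw [e] at c c'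
  · exact absurd c fake
  · rwa [h.Ew h.rA] at c
  · rwa [h.ν, h.r32.wn] at c'
  · rw [h.ν, h.Ew h.r32, D.νν'', (h.rA.cj D.w_NN).wn, D.ww'] at c'
    exact absurd c' fake

theorem c41_42 (hq : a * a ≠ 1) : D.n ⋆ (D.w ⋆ (D.ν ⋆ E.R)) ≤ 𝐂(D.w ⋆ (D.ν ⋆ E.R)) :=
  (h.c42 p hq).trans (cent_anti le_sup_left)
theorem c14_24 (hq : a * a ≠ 1) : D.n ⋆ E.R ≤ 𝐂(E.R) := by
  simpa only [h.r41.νn, D.νw', D.ww', D.νν''] using cent_cj ((h.c42 p hq).trans (cent_anti le_sup_right)) D.ν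

end Two

end Dat

end Cfsg.Lib.L4C
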