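import Cfsg.Agent.Lib.L4C.Inv

/-! Groups with an involution centralizer of type `L₄(q)`: Sylow `2`-subgroups and swaps (helper16). -/

set_option autoImplicit false

namespace Cfsg.Lib.L4C

open Matrix Subgroup Cfsg.Lib.PSL2 Cfsg.Lib.GLTwo Cfsg.Lib.L3C Cfsg.Lib.BG Cfsg.Lib.Small Cfsg.Lib.GW
open Cfsg.Lib.Inv hiding conj_mem_of_mem_normalizer
open scoped Cfsg.Lib.Transfer

variable {F : Type*} [Field F] {G : Type*} [Group G] {A B C E P Q X Y : GL (Fin 2) F} {a b c d z : Fˣ} {r s : F}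
  {g x y v : G} {p : ℕ} {M N S : Subgroup G}

theorem zp_pe (h : PE p x) : IsPGroup p (zpowers x) := fun ⟨_, l, rfl⟩ => h.imp fun k h => Subtype.ext (by
  change (x ^ l) ^ p ^ k = 1
  rw [← zpow_natCast, ← _root_.zpow_mul, mul_comm, _root_.zpow_mul, zpow_natCast, h, _root_.one_zpow])

theorem pe_four (h : x * x * (x * x) = 1) : PE 2 x := ⟨2, by rw [← h]; simp [pow_succ, mul_assoc]⟩

theorem q8_pgroup (h : x * x * (x * x) = 1) (k : y * y * (y * y) = 1) (e : y * x * y⁻¹ = x⁻¹) [Finite G] :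
    IsPGroup 2 ↥(zpowers x ⊔ zpowers y) :=
  pgroup_sup (zp_pe (pe_four h)) (zp_pe (pe_four k)) (zp_norm.2 (Transfer.mem_normalizer_of_conj_le (by
    rw [Transfer.conj_zpowers, e, zpowers_inv])))

namespace Dat
variable (D : Dat F G)

/-- the subgroup `SL₂ ∘ SL₂` -/
def YY : Subgroup G where
  carrier := {x | ∃ A B, 𝐝 A = 1 ∧ 𝐝 B = 1 ∧ x = D.m A B}
  one_mem' := ⟨1, 1, by simp, by simp, D.one.symm⟩
  mul_mem' := by
    rintro _ _ ⟨A, B, h, h', rfl⟩ ⟨C, E, k, k', rfl⟩; exact ⟨_, _, by simp [*], by simp [*], D.mul (by prt) (by prt)⟩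
  inv_mem' := by rintro _ ⟨A, B, h, h', rfl⟩; exact ⟨_, _, by simp [*], by simp [*], D.inv (by prt)⟩

/-- the diagonal `SL₂` -/
def KK : Subgroup G where
  carrier := {x | ∃ A, 𝐝 A = 1 ∧ x = D.m A A}
  one_mem' := ⟨1, by simp, D.one.symm⟩
  mul_mem' := by rintro _ _ ⟨A, h, rfl⟩ ⟨C, k, rfl⟩; exact ⟨_, by simp [*], D.mul (by prt) (by prt)⟩
  inv_mem' := by rintro _ ⟨A, h, rfl⟩; exact ⟨_, by simp [*], D.inv (by prt)⟩

/-- the kernel of the quadratic character -/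
def MM : Subgroup G where
  carrier := {x | ∃ A B c, Pr A B ∧ 𝐝 A = c * c ∧ (x = D.m A B ∨ x = D.m A B * D.ν)}
  one_mem' := ⟨1, 1, 1, .one, by simp, .inl D.one.symm⟩
  mul_mem' := by
    rintro _ _ ⟨A, B, c, h, h', rfl | rfl⟩ ⟨C, E, d, k, k', rfl | rfl⟩
    · exact ⟨_, _, c * d, h.mul k, by simp [*, mul_mul_mul_comm c], .inl (by mm)⟩
    · exact ⟨_, _, c * d, h.mul k, by simp [*, mul_mul_mul_comm c], .inr (by mm)⟩
    · exact ⟨_, _, c * d⁻¹, h.mul k.symm, by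
        rw [map_mul, h', eq_inv_of_mul_eq_one_right k, k', mul_inv, mul_mul_mul_comm], .inr (by mm)⟩
    · exact ⟨_, _, c * d⁻¹, h.mul k.symm, by
        rw [map_mul, h', eq_inv_of_mul_eq_one_right k, k', mul_inv, mul_mul_mul_comm], .inl (by mm)⟩
  inv_mem' := by
    rintro _ ⟨A, B, c, h, h', rfl | rfl⟩
    · exact ⟨_, _, c⁻¹, h.inv, by simp [*], .inl (by mm)⟩
    · exact ⟨_, _, c, h.symm.inv, by rw [map_inv, eq_inv_of_mul_eq_one_right h, inv_inv, h'], .inr (by mm)⟩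

theorem YY_le : D.YY ≤ D.H := by rintro _ ⟨A, B, h, k, rfl⟩; exact D.H_mem
theorem KK_le : D.KK ≤ D.YY := by rintro _ ⟨A, h, rfl⟩; exact ⟨A, A, h, h, rfl⟩
theorem MM_le : D.MM ≤ 𝐂[D.t] := by
  rintro _ ⟨A, B, c, h, -, rfl | rfl⟩
  exacts [D.m_mem, mul_mem D.m_mem D.ν_mem]
theorem YY_norm (hg : g ∈ 𝐂[D.t]) (hx : x ∈ D.YY) : g * x * g⁻¹ ∈ D.YY := by
  obtain ⟨A, B, h1, h2, rfl⟩ := hx
  obtain ⟨P, Q, h, rfl | rfl⟩ := D.cases hg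
  · exact ⟨_, _, by simp [*], by simp [*], D.cjm h (by prt)⟩
  · exact ⟨P * B * P⁻¹, Q * A * Q⁻¹, by simp [*], by simp [*], by rw [cjc, D.cjν (by prt), D.cjm h (by prt)]⟩

theorem mul_MM [Finite F] (hx : x ∈ 𝐂[D.t]) (hy : y ∈ 𝐂[D.t]) (nx : x ∉ D.MM) (ny : y ∉ D.MM) : x * y ∈ D.MM := by
  obtain ⟨A, B, h, e⟩ := D.cases hx
  obtain ⟨C, E, k, f⟩ := D.cases hy
  have a1 : ¬ ∃ c, 𝐝 A = c * c := fun ⟨c, l⟩ => nx ⟨A, B, c, h, l, e⟩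
  have a2 : ¬ ∃ c, 𝐝 C = c * c := fun ⟨c, l⟩ => ny ⟨C, E, c, k, l, f⟩
  have a3 : ¬ ∃ c, 𝐝 E = c * c := fun ⟨c, l⟩ => a2 ⟨c⁻¹, by rw [eq_inv_of_mul_eq_one_left k, l, mul_inv]⟩
  obtain ⟨c, l⟩ := sq_mul D.two a1 a2
  obtain ⟨d, l'⟩ := sq_mul D.two a1 a3
  rcases e with rfl | rfl <;> rcases f with rfl | rfl
  exacts [⟨_, _, c, h.mul k, by simp [l], .inl (by mm)⟩, ⟨_, _, c, h.mul k, by simp [l], .inr (by mm)⟩,
    ⟨_, _, d, h.mul k.symm, by simp [l'], .inr (by mm)⟩, ⟨_, _, d, h.mul k.symm, by simp [l'], .inl (by mm)⟩]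

theorem L1_le (hu : ∀ s, D.m (up s) 1 ∈ M) (hl : ∀ s, D.m (lo s) 1 ∈ M) (h : 𝐝 X = 1) : D.m X 1 ∈ M :=
  (mem_of_up_lo (N := ⟨⟨⟨{X | 𝐝 X = 1 ∧ D.m X 1 ∈ M}, fun {A B} a b => ⟨by simp [a.1, b.1], by
    have := mul_mem a.2 b.2; have := a.1; have := b.1; mm at *; assumption⟩⟩, by simp [one]⟩, fun {A} a => ⟨by simp [a.1], by
    have := inv_mem a.2; have := a.1; mm at *; assumption⟩⟩) (fun s => ⟨dt_up s, hu s⟩) (fun s => ⟨dt_lo s, hl s⟩) h).2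

theorem KK_le' (hu : ∀ s, D.m (up s) (up s) ∈ M) (hl : ∀ s, D.m (lo s) (lo s) ∈ M) : D.KK ≤ M := by
  rintro _ ⟨X, h, rfl⟩
  exact (mem_of_up_lo (N := ⟨⟨⟨{X | 𝐝 X = 1 ∧ D.m X X ∈ M}, fun {A B} a b => ⟨by simp [a.1, b.1], by
    have := mul_mem a.2 b.2; have := a.1; have := b.1; mm at *; assumption⟩⟩, by simp [one]⟩, fun {A} a => ⟨by simp [a.1], by
    have := inv_mem a.2; have := a.1; mm at *; assumption⟩⟩) (fun s => ⟨dt_up s, hu s⟩) (fun s => ⟨dt_lo s, hl s⟩) h).2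

/-- A subgroup normalized by the second factor and meeting it noncentrally contains `t`. -/
theorem t_mem2 (hM : ∀ A X, 𝐝 A = 1 → 𝐝 X = 1 → D.m 1 X ∈ M → D.m 1 (A * X * A⁻¹) ∈ M) (d : 𝐝 X = 1) (n : ¬ Sc X)
    (h : D.m 1 X ∈ M) : D.t ∈ M :=
  D.t_eq ▸ (ng_mem D.two (N := ⟨⟨⟨{X | 𝐝 X = 1 ∧ D.m 1 X ∈ M}, fun {A B} a b => ⟨by simp [a.1, b.1], by
    have := mul_mem a.2 b.2; have := a.1; have := b.1; mm at *; assumption⟩⟩, by simp [one]⟩, fun {A} a => ⟨by simp [a.1], by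
    have := inv_mem a.2; have := a.1; mm at *; assumption⟩⟩) (fun A a X b => ⟨by simp [b.1], hM A X a b.1 b.2⟩) ⟨d, h⟩ d n).2

theorem KK_inv (h : x ∈ D.KK) (e : x * x = 1) (n : x ≠ 1) : D.IsJ x ∧ D.IsJ (D.t * x) := by
  obtain ⟨X, h, rfl⟩ := h
  obtain ⟨z, e1, -⟩ := (D.ker (by prt)).1 (D.mul (.sl h h) (.sl h h) ▸ e)
  have s : ¬ Sc X := fun ⟨a, s⟩ => n ((D.ker (.sl h h)).2 ⟨a, s, s⟩)
  obtain rfl : z = -1 := by rw [← neg_neg z, ← (tr_of_sq e1 s).2, h]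
  exact ⟨⟨X, X, h, h, e1, e1, rfl⟩, _, X, by simp [h], h, by rw [mul_assoc, sc_lc, ← mul_assoc, ng_ng, one_mul, e1], e1,
    D.t_mul (by prt)⟩

theorem swap_T (h : x ∈ 𝐂[D.t]) (n : x ∉ D.H) (e : x * x = 1) : ∃ y ∈ D.H, ∃ τ ∈ D.T, y * x * y⁻¹ = τ * D.ν := by
  obtain ⟨_, ⟨A, B, k, rfl⟩, rfl⟩ := (D.H_or h).resolve_left n
  obtain ⟨z, hz, rfl, -⟩ := D.exists_ch k e
  have l : Pr 1 ((dg (𝐝 A) 1)⁻¹ * A) := by prt
  refine ⟨_, D.H_mem l, _, D.T_mem (a := 𝐝 A) (b := 1) (c := z * (𝐝 A)⁻¹) (d := z * 1⁻¹) (by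
    simp [Pr, mul_assoc, mul_left_comm (𝐝 A), hz]), ?_⟩
  mm
  rw [sc_lc z A, mul_inv_cancel, mul_one, sc_comm, dg_inv, dg_mul, inv_one, mul_one]

theorem swap_sq (h : Pr A B) (k : 𝐝 A = c * c) (e : D.m A B * D.ν * (D.m A B * D.ν) = 1) :
    IsConj D.ν (D.m A B * D.ν) ∨ IsConj (D.t * D.ν) (D.m A B * D.ν) := by
  obtain ⟨z, hz, rfl, -⟩ := D.exists_ch h e
  have l : Pr (dg c⁻¹ 1) (dg c⁻¹ 1 * A) := by simp [Pr, k]
  have : D.m (dg c⁻¹ 1) (dg c⁻¹ 1 * A) * (D.m A (dg z z * A⁻¹) * D.ν) * (D.m (dg c⁻¹ 1) (dg c⁻¹ 1 * A))⁻¹ =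
      D.m 1 (dg z z) * D.ν := by
    mm
    rw [sc_lc z A, mul_inv_cancel_left, sc_lc, mul_inv_cancel, mul_one]
  have := (isConj_iff.2 ⟨_, this⟩).symm
  rcases usq.1 hz with rfl | rfl
  · exact .inl (by rwa [show D.m 1 (dg 1 1) = 1 by rw [dg_one, one], one_mul] at this)
  · exact .inr (by rwa [t_eq] at this)

theorem tν (hi : a * a = -1) : D.m (dg a 1) (dg 1 a⁻¹) * D.ν * (D.m (dg a 1) (dg 1 a⁻¹))⁻¹ = D.t * D.ν := by
  mm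
  simp only [dg_inv, dg_mul, inv_one, mul_one, one_mul, inv_inv, mul_left_inj]
  have : a⁻¹ = -a := inv_eq_of_mul_eq_one_right (by rw [mul_neg, hi, neg_neg])
  exact D.sc a⁻¹ (by simp [dg_mul, this]) (by simp)

theorem S_three (hn : ¬ IsSquare (-1 : F)) (h : D.IsS x) (e : x * x = 1) : x = 1 ∨ x = D.t := by
  obtain ⟨A, B, h, s, rfl⟩ := h
  obtain ⟨z, e1, e2⟩ := (D.ker (h.mul h)).1 (D.mul h h ▸ e)
  have key : ∀ {A B : GL (Fin 2) F}, Pr A B → A * A = dg z z → B * B = dg z z → Sc A → Sc B :=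
    fun {A B} h e1 e2 ⟨a, s⟩ => by_contra fun n => by
      rw [s, dg_mul, dg_inj] at e1
      rw [Pr, (tr_of_sq e2 n).2, s, dt_dg, e1.1] at h
      exact hn ⟨z, by have := congrArg Units.val h; simp at this; linear_combination this⟩
  exact D.eq_t h (s.elim id (key h.symm e2 e1)) (s.elim (key h e1 e2) id) e

variable [Finite G] [Finite F]

theorem exists_Q : ∃ Q ≤ D.YY, IsPGroup 2 Q ∧ D.n ∈ Q ∧ ∀ h ∈ 𝐂[D.t], ∀ v ∈ 𝐂[D.t], v * v = 1 → v ∈ 𝐂(h ⋆ Q) →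
    v = 1 ∨ v = D.t := by
  obtain ⟨I, i1, i2, i3, i4⟩ := exists_ii (F := F)
  have k : IsPGroup 2 ↥(zpowers (D.m I 1) ⊔ zpowers D.n) := q8_pgroup (by mm; rw [← mul_assoc, i2, ng_ng, one])
    (by rw [nn, tt]) (by rw [n, D.cjm (by prt) (by prt), i3]; mm)
  have l : zpowers (D.m I 1) ⊔ zpowers D.n ≤ D.YY :=
    sup_le (zpowers_le.2 ⟨_, _, i1, by simp, rfl⟩) (zpowers_le.2 ⟨_, _, dt_jj, by simp, rfl⟩)
  refine ⟨_ ⊔ D.ν ⋆ _, sup_le l (Transfer.conj_le_iff.2 fun x hx => D.YY_norm D.ν_mem (l hx)),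
    pgroup_sup k ((pgroup_conj _).2 k) (norm_of_cent ?_), mem_sup_left (mem_sup_right (mem_zpowers _)),
    fun h hh v hv e c => ?_⟩
  · simp only [Transfer.conj_sup, Transfer.conj_zpowers, cent_sup, cent_zpowers, n, sup_le_iff, zpowers_le, mem_inf,
      mem_cent1]
    refine ⟨⟨?_, ?_⟩, ?_, ?_⟩ <;> mm
  rw [← Transfer.conj_centralizer, Transfer.mem_conj] at c
  simp only [Transfer.conj_sup, Transfer.conj_zpowers, cent_sup, cent_zpowers, n, mem_inf, mem_cent1] at c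
  rw [D.cjν (by prt), D.cjν (by prt)] at c
  obtain ⟨⟨c1, c2⟩, c3, c4⟩ := c
  have e' : h⁻¹ * v * h * (h⁻¹ * v * h) = 1 := by rw [mul_assoc, mul_assoc, mul_assoc, mul_inv_cancel_left, ← mul_assoc v, e]; simp
  obtain ⟨A, B, k, f | f⟩ := D.cases (mul_mem (mul_mem (inv_mem hh) hv) hh) <;> rw [f] at c1 c2 c3 c4 e'
  · have := D.eq_t k (i4 _ D.two (D.comm1 c2) (D.comm1 c1)) (i4 _ D.two (D.comm2 c4) (D.comm2 c3)) e'
    rw [← f, mul_assoc, inv_mul_eq_iff_eq_mul, inv_mul_eq_iff_eq_mul, mul_one, mem_cent1.1 hh, mul_left_inj] at this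
    simpa using this
  · mm at c2
    obtain ⟨z, c, -⟩ := D.eq ((mul_left_inj _).1 c2)
    rw [← mul_assoc, right_eq_mul] at c
    exact absurd (Sc.of_mul ⟨1, c.trans dg_one.symm⟩) not_sc_jj

variable (p) [hp : Fact p.Prime] [CharP F p]

theorem syl (hS : Syl 2 S 𝐂[D.t]) : Syl 2 S ⊤ := by
  have hts : D.t ∈ S := hS.ge_of_norm_p (zpowers_le.2 (self_mem_cent1 _)) (zp_two D.t2)
    (norm_of_cent (by rw [cent_zpowers]; exact hS.le)) (mem_zpowers _)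
  obtain ⟨Q, q1, q2, -, q3⟩ := D.exists_Q
  obtain ⟨h, hh, e⟩ := hS.exists_conj_le q2 (q1.trans (D.YY_le.trans D.H_le))
  refine hS.of_norm_le le_top fun n hn => cent1_iff.2 ((q3 h hh _ (hS.le (conj_mem_of_norm hn.2 hts))
    (by rw [← cj_mul, tt]; simp) (cent_anti e ?_)).resolve_left (conj_ne_one D.t_ne))
  rw [← conj_eq_of_norm hn.2, ← Transfer.conj_centralizer]
  exact Transfer.conj_mem_conj.2 (le_cent1_iff.1 hS.le)

variable (hG : ∀ H : Subgroup G, H.index ≠ 2)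
include hG

theorem thompson (hM : ∀ x ∈ 𝐂[D.t], ∀ y ∈ 𝐂[D.t], x ∉ M → y ∉ M → x * y ∈ M) (h : x ∈ 𝐂[D.t]) (n : x ∉ M)
    (e : x * x = 1) : ∃ g, g * x * g⁻¹ ∈ M := by
  obtain ⟨S, hS, l⟩ := Syl.exists_ge (isPGroup_zpowers_of_mul_self e) (zpowers_le.2 h)
  obtain ⟨T, rfl⟩ := Syl.top_iff_sylow.1 (D.syl hS)
  exact Transfer.exists_conj_mem_of_thompson_transfer (pResidual_two_eq_top_iff.2 hG) T (relIndex_eq_two_iff.2
    ⟨x, l (mem_zpowers x), fun b hb => (em (b ∈ M)).elim (fun k => .inr ⟨k, fun c => n ((mul_mem_cancel_left k).1 c)⟩)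
      fun k => .inl ⟨hM b (hS.le hb) x h k n, k⟩⟩) (by rw [sq, e])

omit [Finite F] in
theorem zstar : ∃ v ∈ 𝐂[D.t], IsConj D.t v ∧ v ≠ D.t := by
  by_contra! h
  have n : (⊤ : Subgroup G) ≤ 𝐍(Od ⊤) := (Od_nml ⊤).norm
  have k : ∀ k ∈ Od (⊤ : Subgroup G), k ∈ 𝐂[D.t] → k ∈ D.H := fun k a b =>
    D.odd_H b (odd_of_mem_Od a) (pow_orderOf_eq_one k)
  have l : D.ν ∉ Od ⊤ ⊔ D.H := fun e => by
    obtain ⟨a, ha, b, hb, e⟩ := (mem_sup_left_norm (le_top.trans n)).1 e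
    exact D.ν_not (e ▸ mul_mem (k a ha ((mul_mem_cancel_right (D.H_le hb)).1 (e ▸ D.ν_mem))) hb)
  refine hG (Od ⊤ ⊔ D.H) (index_eq_two_iff.2 ⟨D.ν, fun b => ?_⟩)
  obtain ⟨a, ha, e⟩ := zs (L := ⊤) D.t2 (mem_top _) (fun g _ e => h _ e (isConj_iff.2 ⟨g, rfl⟩)) (mem_top b)
  rcases D.H_or e with e | ⟨y, e, f⟩
  · have : b ∈ Od ⊤ ⊔ D.H := (mul_mem_cancel_left (mem_sup_left (inv_mem ha))).1 (mem_sup_right e)
    exact .inr ⟨this, fun c => l ((mul_mem_cancel_left this).1 c)⟩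
  · have : b * D.ν ∈ Od ⊤ ⊔ D.H := (mul_mem_cancel_left (mem_sup_left (inv_mem ha))).1 (mem_sup_right (by
      rwa [← mul_assoc, f, mul_assoc, D.νν, mul_one]))
    exact .inl ⟨this, fun c => l ((mul_mem_cancel_left c).1 this)⟩

end Dat

end Cfsg.Lib.L4C
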